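import Cfsg.Agent.BlocksCharsC.Restriction
import Cfsg.Agent.Blocks.Height
import Cfsg.Agent.Characters.Linear
import Cfsg.Agent.Characters.Orthogonality
import Cfsg.Agent.GaloisAverage.CoprimeModule

/-!
# An element seen by only one nonlinear irreducible character

The values of the character, its kernel and the derived subgroup.
-/

set_option autoImplicit false
set_option linter.style.haveILetI false
set_option linter.unusedSectionVars false

namespace CfsgLib.OneCharElement

open CfsgLib.Characters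
open scoped ComplexConjugate commutatorElement

universe u

variable {G : Type u} [Group G]

/-- `g` is noncentral and `χ` is the only nonlinear irreducible character not vanishing at `g`. -/
structure Seen (g : G) (χ : Cfsg.IrrCharacter G) : Prop where
  noncentral : g ∉ Subgroup.center G
  ne_one : (χ : G → ℂ) 1 ≠ 1
  ne_zero : (χ : G → ℂ) g ≠ 0
  other : ∀ ψ : Cfsg.IrrCharacter G, (ψ : G → ℂ) 1 ≠ 1 → ψ ≠ χ → (ψ : G → ℂ) g = 0

theorem charDegree_eq_one_iff [Fintype G] (ψ : Cfsg.IrrCharacter G) :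
    Cfsg.charDegree (ψ : G → ℂ) = 1 ↔ (ψ : G → ℂ) 1 = 1 := by
  rw [← Blocks.charDegree_cast ψ, Nat.cast_eq_one]

theorem exists_linear_ne_one [Finite G] {x : G} (hx : x ∉ commutator G) :
    ∃ f : G →* ℂˣ, f x ≠ 1 := by
  haveI : Finite (Abelianization G) := Quotient.finite _
  haveI : NeZero (Monoid.exponent (Abelianization G) : ℂ) :=
    ⟨Nat.cast_ne_zero.2 Monoid.exponent_ne_zero_of_finite⟩
  obtain ⟨φ, hφ⟩ := CommGroup.exists_apply_ne_one_of_hasEnoughRootsOfUnity (Abelianization G) ℂ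
    (a := Abelianization.of x) (fun h => hx ((QuotientGroup.eq_one_iff x).1 h))
  exact ⟨φ.comp Abelianization.of, hφ⟩

variable [Fintype G]

open Classical in
/-- The sum of the linear characters at an element. -/
theorem linear_sum (x : G) :
    (∑ ψ : Cfsg.IrrCharacter G, if (ψ : G → ℂ) 1 = 1 then (ψ : G → ℂ) x else 0) =
      if x ∈ commutator G then ((commutator G).index : ℂ) else 0 := by
  haveI : Fintype (G →* ℂˣ) := Fintype.ofEquiv _ (linearCharEquiv (G := G)).symm
  have h1 : (∑ ψ : Cfsg.IrrCharacter G, if (ψ : G → ℂ) 1 = 1 then (ψ : G → ℂ) x else 0) =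
      ∑ f : G →* ℂˣ, (f x : ℂ) := by
    rw [← Finset.sum_filter, Finset.sum_subtype (p := fun ψ : Cfsg.IrrCharacter G =>
      (ψ : G → ℂ) 1 = 1) _ (fun ψ => by simp)]
    exact (Fintype.sum_equiv linearCharEquiv (fun f : G →* ℂˣ => (f x : ℂ)) _ fun f => rfl).symm
  rw [h1]
  split_ifs with hx
  · have e : ∀ f : G →* ℂˣ, (f x : ℂ) = 1 := fun f => by
      rw [MonoidHom.mem_ker.1 (Abelianization.commutator_subset_ker f hx), Units.val_one]
    rw [Finset.sum_congr rfl fun f _ => e f, Finset.sum_const, Finset.card_univ, nsmul_one,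
      ← card_linear_char, ← Nat.card_congr (linearCharEquiv (G := G)), Nat.card_eq_fintype_card]
  · obtain ⟨f0, hf0⟩ := exists_linear_ne_one hx
    have h := Fintype.sum_equiv (Equiv.mulLeft f0) (fun f : G →* ℂˣ => ((f0 * f) x : ℂ))
      (fun f : G →* ℂˣ => (f x : ℂ)) fun f => rfl
    simp only [MonoidHom.mul_apply, Units.val_mul, ← Finset.mul_sum] at h
    have h2 : ((f0 x : ℂ) - 1) * ∑ f : G →* ℂˣ, (f x : ℂ) = 0 := by linear_combination h
    exact (mul_eq_zero.1 h2).resolve_left
      (sub_ne_zero.2 fun h3 => hf0 (Units.ext (h3.trans Units.val_one.symm)))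

variable {g : G} {χ : Cfsg.IrrCharacter G}

namespace Seen

open Classical in
theorem column (hS : Seen g χ) (h : G) :
    ∑ ψ : Cfsg.IrrCharacter G, (ψ : G → ℂ) g * conj ((ψ : G → ℂ) h) =
      (∑ ψ : Cfsg.IrrCharacter G,
        if (ψ : G → ℂ) 1 = 1 then (ψ : G → ℂ) g * conj ((ψ : G → ℂ) h) else 0) +
      (χ : G → ℂ) g * conj ((χ : G → ℂ) h) := by
  rw [← Finset.sum_ite_eq' Finset.univ χ (fun ψ : Cfsg.IrrCharacter G =>
      (ψ : G → ℂ) g * conj ((ψ : G → ℂ) h)) |>.trans (if_pos (Finset.mem_univ χ)),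
    ← Finset.sum_add_distrib]
  refine Finset.sum_congr rfl fun ψ _ => ?_
  by_cases h1 : (ψ : G → ℂ) 1 = 1
  · rw [if_pos h1, if_neg fun e => hS.ne_one (by rw [← e]; exact h1), add_zero]
  · rw [if_neg h1, zero_add]
    split_ifs with h2
    · rfl
    · rw [hS.other ψ h1 h2, zero_mul]

theorem not_isConj_one (hS : Seen g χ) : ¬ IsConj g 1 := fun h => hS.noncentral (by
  rw [isConj_one_left.1 h]; exact one_mem _)

theorem mem_commutator (hS : Seen g χ) : g ∈ commutator G := by
  classical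
  by_contra hg
  have h := sum_irr_mul_conj_of_not_isConj hS.not_isConj_one
  rw [hS.column] at h
  have e : ∀ ψ : Cfsg.IrrCharacter G,
      (if (ψ : G → ℂ) 1 = 1 then (ψ : G → ℂ) g * conj ((ψ : G → ℂ) 1) else 0) =
        if (ψ : G → ℂ) 1 = 1 then (ψ : G → ℂ) g else 0 := fun ψ => by
    split_ifs with h1
    · rw [h1, map_one, mul_one]
    · rfl
  rw [Finset.sum_congr rfl fun ψ _ => e ψ, linear_sum, if_neg hg, zero_add,
    mul_eq_zero] at h
  rcases h with h | h
  · exact hS.ne_zero h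
  · exact irr_one_ne_zero χ.2 ((map_eq_zero _).1 h)

open Classical in
theorem relation (hS : Seen g χ) {h : G} (hh : ¬ IsConj g h) :
    (if h ∈ commutator G then ((commutator G).index : ℂ) else 0) +
      (χ : G → ℂ) g * conj ((χ : G → ℂ) h) = 0 := by
  have hsum := sum_irr_mul_conj_of_not_isConj hh
  rw [hS.column] at hsum
  refine Eq.trans ?_ hsum
  congr 1
  have h2 := congrArg conj (linear_sum h)
  have hr : conj (if h ∈ commutator G then ((commutator G).index : ℂ) else 0) =
      if h ∈ commutator G then ((commutator G).index : ℂ) else 0 := by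
    split_ifs <;> simp
  rw [hr, map_sum] at h2
  rw [← h2]
  refine Finset.sum_congr rfl fun ψ _ => ?_
  split_ifs with h1
  · obtain ⟨f, hf⟩ := exists_hom_of_degree_one (isCharacter_of_isIrr ψ.2) h1
    rw [hf]
    show conj (f h : ℂ) = (f g : ℂ) * conj (f h : ℂ)
    rw [MonoidHom.mem_ker.1 (Abelianization.commutator_subset_ker f hS.mem_commutator),
      Units.val_one, one_mul]
  · exact map_zero _

theorem conj_chi_one (χ : Cfsg.IrrCharacter G) :
    conj ((χ : G → ℂ) 1) = (χ : G → ℂ) 1 := by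
  rw [← Blocks.charDegree_cast χ, map_natCast]

theorem value (hS : Seen g χ) :
    (χ : G → ℂ) g = -(((commutator G).index : ℂ) / (χ : G → ℂ) 1) := by
  have h := hS.relation hS.not_isConj_one
  rw [if_pos (one_mem _), conj_chi_one] at h
  rw [neg_div', eq_div_iff (irr_one_ne_zero χ.2)]
  linear_combination h

theorem vanish (hS : Seen g χ) {x : G} (hx : x ∉ commutator G) : (χ : G → ℂ) x = 0 := by
  have h := hS.relation (h := x) fun hc => hx (by
    obtain ⟨c, rfl⟩ := isConj_iff.1 hc
    exact Subgroup.Normal.conj_mem inferInstance g hS.mem_commutator c)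
  rw [if_neg hx, zero_add, mul_eq_zero] at h
  exact (map_eq_zero _).1 (h.resolve_left hS.ne_zero)

theorem derived_eq (hS : Seen g χ) :
    (commutator G : Set G) = {x : G | (χ : G → ℂ) x = (χ : G → ℂ) 1} ∪ {h : G | IsConj g h} := by
  ext x
  refine ⟨fun hx => or_iff_not_imp_right.2 fun hnc => ?_, fun hx => ?_⟩
  · have h := hS.relation hnc
    rw [if_pos (show x ∈ commutator G from hx), hS.value] at h
    have h1 := irr_one_ne_zero χ.2
    have hi : ((commutator G).index : ℂ) ≠ 0 :=
      Nat.cast_ne_zero.2 Subgroup.index_ne_zero_of_finite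
    have h2 : conj ((χ : G → ℂ) x) = (χ : G → ℂ) 1 := by
      have h3 : ((commutator G).index : ℂ) * ((χ : G → ℂ) 1 - conj ((χ : G → ℂ) x)) = 0 := by
        field_simp at h
        linear_combination h
      exact (sub_eq_zero.1 ((mul_eq_zero.1 h3).resolve_left hi)).symm
    show (χ : G → ℂ) x = (χ : G → ℂ) 1
    rw [← Complex.conj_conj ((χ : G → ℂ) x), h2, conj_chi_one]
  · rcases hx with hx | hx
    · by_contra hxD
      exact irr_one_ne_zero χ.2 ((show (χ : G → ℂ) x = (χ : G → ℂ) 1 from hx).symm.trans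
        (hS.vanish hxD))
    · obtain ⟨c, rfl⟩ := isConj_iff.1 hx
      exact Subgroup.Normal.conj_mem inferInstance g hS.mem_commutator c

/-- The kernel of the character. -/
def ker (_hS : Seen g χ) : Subgroup G :=
  BlocksCharsC.charKer (χ : G → ℂ) (isCharacter_of_isIrr χ.2)

theorem mem_ker (hS : Seen g χ) {x : G} : x ∈ hS.ker ↔ (χ : G → ℂ) x = (χ : G → ℂ) 1 := Iff.rfl

theorem ker_normal (hS : Seen g χ) : hS.ker.Normal := ⟨fun n hn c => by
  rw [mem_ker] at hn ⊢
  rw [isClassFunction_of_isIrr χ.2 n c, hn]⟩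

theorem not_mem_ker (hS : Seen g χ) : g ∉ hS.ker := by
  rw [mem_ker, hS.value]
  intro h
  have h1 : ((commutator G).index : ℂ) + (χ : G → ℂ) 1 ^ 2 = 0 := by
    have hne := irr_one_ne_zero χ.2
    field_simp at h
    linear_combination -h
  rw [← Blocks.charDegree_cast χ] at h1
  norm_cast at h1
  have := Subgroup.index_ne_zero_of_finite (H := commutator G)
  omega

theorem ker_le (hS : Seen g χ) : hS.ker ≤ commutator G := fun x hx => by
  show x ∈ (commutator G : Set G)
  rw [hS.derived_eq]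
  exact Or.inl hx

theorem mem_sdiff_iff (hS : Seen g χ) {x : G} :
    (x ∈ commutator G ∧ x ∉ hS.ker) ↔ IsConj g x := by
  have h : x ∈ commutator G ↔ (χ : G → ℂ) x = (χ : G → ℂ) 1 ∨ IsConj g x :=
    Iff.of_eq (congrArg (x ∈ ·) hS.derived_eq)
  refine ⟨fun hx => (h.1 hx.1).resolve_left hx.2, fun hx => ⟨h.2 (Or.inr hx), fun hk => ?_⟩⟩
  obtain ⟨c, rfl⟩ := isConj_iff.1 hx
  exact hS.not_mem_ker (by simpa [mul_assoc] using hS.ker_normal.conj_mem _ hk c⁻¹)

theorem unique (hS : Seen g χ) (ψ : Cfsg.IrrCharacter G) (h1 : (ψ : G → ℂ) 1 ≠ 1)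
    (hker : ∀ x : G, (χ : G → ℂ) x = (χ : G → ℂ) 1 → (ψ : G → ℂ) x = (ψ : G → ℂ) 1) : ψ = χ := by
  classical
  by_contra hne
  have hval : ∀ x ∈ commutator G,
      (ψ : G → ℂ) x = if x ∈ hS.ker then (ψ : G → ℂ) 1 else 0 := by
    intro x hx
    split_ifs with hk
    · exact hker x hk
    · rw [← classFunction_isConj (isClassFunction_of_isIrr ψ.2) (hS.mem_sdiff_iff.1 ⟨hx, hk⟩)]
      exact hS.other ψ h1 hne
  have hrow : ∀ μ : Cfsg.IrrCharacter G, (μ : G → ℂ) 1 = 1 →
      ∑ x : G, (ψ : G → ℂ) x * conj ((μ : G → ℂ) x) = 0 := by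
    intro μ hμ
    have hne' : (ψ : G → ℂ) ≠ (μ : G → ℂ) := fun e => h1 (by rw [e]; exact hμ)
    have h := classInner_isIrr_ne ψ.2 μ.2 hne'
    simp only [Cfsg.classInner, mul_eq_zero, inv_eq_zero] at h
    exact h.resolve_left (Nat.cast_ne_zero.2 Nat.card_pos.ne')
  have hzero : ∑ x : G, (ψ : G → ℂ) x *
      conj (∑ μ : Cfsg.IrrCharacter G, if (μ : G → ℂ) 1 = 1 then (μ : G → ℂ) x else 0) = 0 := by
    simp only [map_sum, Finset.mul_sum]
    rw [Finset.sum_comm]
    refine Finset.sum_eq_zero fun μ _ => ?_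
    split_ifs with hμ
    · exact hrow μ hμ
    · simp
  have heq : ∀ x : G, (ψ : G → ℂ) x *
      conj (∑ μ : Cfsg.IrrCharacter G, if (μ : G → ℂ) 1 = 1 then (μ : G → ℂ) x else 0) =
      if x ∈ hS.ker then (ψ : G → ℂ) 1 * ((commutator G).index : ℂ) else 0 := by
    intro x
    rw [linear_sum]
    by_cases hx : x ∈ commutator G
    · rw [if_pos hx, map_natCast, hval x hx, ite_mul, zero_mul]
    · rw [if_neg hx, map_zero, mul_zero, if_neg fun h => hx (hS.ker_le h)]
  rw [Finset.sum_congr rfl fun x _ => heq x, ← Finset.sum_filter, Finset.sum_const,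
    nsmul_eq_mul, mul_eq_zero, mul_eq_zero] at hzero
  rcases hzero with h | h | h
  · refine Finset.card_ne_zero.2 ⟨1, ?_⟩ (Nat.cast_eq_zero.1 h)
    simp [one_mem]
  · exact irr_one_ne_zero ψ.2 h
  · exact Subgroup.index_ne_zero_of_finite (Nat.cast_eq_zero.1 h)

/-- The column relation at `g`. -/
theorem card_centralizer_eq (hS : Seen g χ) :
    (Nat.card (Subgroup.centralizer ({g} : Set G)) : ℂ) =
      ((commutator G).index : ℂ) + (χ : G → ℂ) g * conj ((χ : G → ℂ) g) := by
  classical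
  rw [← sum_irr_mul_conj_of_isConj (IsConj.refl g), hS.column]
  congr 1
  rw [← card_linear_char, Nat.card_eq_fintype_card, Fintype.card_subtype, ← Finset.sum_boole]
  refine Finset.sum_congr rfl fun ψ _ => ?_
  split_ifs with h1
  · obtain ⟨f, hf⟩ := exists_hom_of_degree_one (isCharacter_of_isIrr ψ.2) h1
    rw [hf]
    show (f g : ℂ) * conj (f g : ℂ) = 1
    rw [MonoidHom.mem_ker.1 (Abelianization.commutator_subset_ker f hS.mem_commutator),
      Units.val_one, map_one, one_mul]
  · rfl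

/-- An element outside the derived subgroup is not central modulo the kernel. -/
theorem mem_of_central (hS : Seen g χ) {z : G} (hz : ∀ y : G, ⁅z, y⁆ ∈ hS.ker) :
    z ∈ commutator G := by
  by_contra hzD
  have h0 := hS.vanish hzD
  obtain ⟨n, ρ, hρ, he⟩ := χ.2
  haveI := hρ
  have hcomm : ∀ (y : G) (v : Fin n → ℂ), ρ z (ρ y v) = ρ y (ρ z v) := by
    intro y v
    have h := hz y
    rw [mem_ker, ← he] at h
    have hid := OddOrderChar.rep_eq_one_of_char_eq ρ h
    have hzy : ρ z * ρ y = ρ y * ρ z := by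
      rw [← map_mul, ← map_mul, show z * y = ⁅z, y⁆ * (y * z) by
        simp [commutatorElement_def, mul_assoc], map_mul, hid, one_mul]
    exact congrArg (fun L : (Fin n → ℂ) →ₗ[ℂ] (Fin n → ℂ) => L v) hzy
  obtain ⟨c, hc⟩ := schur_scalar ρ (ρ z) hcomm
  have hchar : ρ.character z = c * ρ.character 1 := by
    rw [Representation.character, Representation.character, hc, map_smul, map_one, smul_eq_mul,
      Module.End.one_eq_id]
  rw [he] at hchar
  rw [h0, eq_comm, mul_eq_zero] at hchar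
  have hz0 : ρ z = 0 := by
    rw [hc, hchar.resolve_right (irr_one_ne_zero χ.2), zero_smul]
  have h1 : ρ z⁻¹ * ρ z = 1 := by rw [← map_mul, inv_mul_cancel, map_one]
  rw [hz0, mul_zero] at h1
  refine irr_one_ne_zero χ.2 ?_
  rw [← he, Representation.character, map_one, ← h1, map_zero]

theorem dvd_degree_of_vanish {p : ℕ} [Fact p.Prime] {e : ℕ} (hg : g ^ p ^ e = 1)
    (ψ : Cfsg.IrrCharacter G) (h : (ψ : G → ℂ) g = 0) : p ∣ Cfsg.charDegree (ψ : G → ℂ) := by
  by_contra hp
  exact GaloisAverage.char_ne_zero_of_pow (isCharacter_of_isIrr ψ.2) hg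
    (Blocks.charDegree_cast ψ).symm hp h

end Seen

end CfsgLib.OneCharElement
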