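import Mathlib

/-!
# A normal subgroup whose complement in a `p`-group is one class

Let `T ≤ P` be normal subgroups of `H`, `P` a `p`-group, `H ⧸ P` abelian of order `|P : T| - 1`, and
suppose that the elements of `P` outside `T` form one class of `H`.  Then `T` is central in `P`, and
for odd `p` some element of `P` outside `T` has order `p`.
-/

set_option autoImplicit false
set_option linter.style.haveILetI false
set_option linter.unusedSectionVars false

namespace CfsgLib.OneCharElement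

open Subgroup
open scoped commutatorElement

universe u

/-- If a group acts with all stabilizers equal to `S`, the index of `S` divides the number of
points. -/
theorem index_dvd_card {A : Type*} [Group A] [Finite A] {X : Type*} [Finite X] [MulAction A X]
    (S : Subgroup A) (h : ∀ x : X, MulAction.stabilizer A x = S) : S.index ∣ Nat.card X := by
  classical
  haveI := Fintype.ofFinite (MulAction.orbitRel.Quotient A X)
  rw [Nat.card_congr (MulAction.selfEquivSigmaOrbitsQuotientStabilizer A X), Nat.card_sigma]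
  refine Finset.dvd_sum fun ω _ => ?_
  rw [h, Subgroup.index_eq_card]

theorem num_contra {r a A B d b : ℕ} (hr : 1 < r) (hd : 0 < d) (hda : d < a) (hb : 0 < b)
    (hba : b < a) (hA : A ∣ r ^ d - 1) (hB : B ∣ r ^ b - 1) (hAB : A * B + 1 = r ^ a) : False := by
  have hA' : A ∣ r ^ a - 1 := ⟨B, by omega⟩
  have hB' : B ∣ r ^ a - 1 := ⟨A, by rw [mul_comm B A]; omega⟩
  have key : ∀ {C c : ℕ}, 0 < c → c < a → C ∣ r ^ c - 1 → C ∣ r ^ a - 1 →
      ∃ k, 0 < k ∧ 2 * k ≤ a ∧ C ≤ r ^ k - 1 := by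
    intro C c hc hca h1 h2
    have h3 := Nat.dvd_gcd h1 h2
    rw [Nat.pow_sub_one_gcd_pow_sub_one] at h3
    have hk : 0 < Nat.gcd c a := Nat.gcd_pos_of_pos_left a hc
    refine ⟨Nat.gcd c a, hk, ?_, Nat.le_of_dvd ?_ h3⟩
    · obtain ⟨q, hq⟩ := Nat.gcd_dvd_right c a
      have hlt : Nat.gcd c a < a := lt_of_le_of_lt (Nat.le_of_dvd hc (Nat.gcd_dvd_left c a)) hca
      have h2q : 2 ≤ q := by
        by_contra hq2
        interval_cases q <;> omega
      calc 2 * Nat.gcd c a ≤ q * Nat.gcd c a := Nat.mul_le_mul_right _ h2q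
        _ = a := by rw [mul_comm]; exact hq.symm
    · have := Nat.one_lt_pow hk.ne' hr
      omega
  obtain ⟨k, hk, hka, hAk⟩ := key hd hda hA hA'
  obtain ⟨l, hl, hla, hBl⟩ := key hb hba hB hB'
  have hk1 := Nat.one_lt_pow hk.ne' hr
  have hl1 := Nat.one_lt_pow hl.ne' hr
  have h1 : r ^ k * r ^ l ≤ r ^ a := by
    rw [← pow_add]; exact Nat.pow_le_pow_right (by omega) (by omega)
  have h2 := Nat.mul_le_mul hAk hBl
  obtain ⟨u, hu⟩ : ∃ u, r ^ k = u + 1 := ⟨r ^ k - 1, by omega⟩
  obtain ⟨v, hv⟩ : ∃ v, r ^ l = v + 1 := ⟨r ^ l - 1, by omega⟩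
  rw [hu, hv, Nat.add_sub_cancel, Nat.add_sub_cancel] at h2
  rw [hu, hv] at h1
  rw [add_mul, mul_add, one_mul, mul_one] at h1
  omega

variable {H : Type u} [Group H]

theorem comm_mul_central_left {e a b : H} (h1 : Commute e a) (h2 : Commute e b) :
    ⁅e * a, b⁆ = ⁅a, b⁆ := by
  simp only [commutatorElement_def, mul_inv_rev]
  have h3 : Commute e (a * b * a⁻¹) := (h1.mul_right h2).mul_right h1.inv_right
  calc e * a * b * (a⁻¹ * e⁻¹) * b⁻¹ = (e * (a * b * a⁻¹)) * e⁻¹ * b⁻¹ := by group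
    _ = (a * b * a⁻¹ * e) * e⁻¹ * b⁻¹ := by rw [h3.eq]
    _ = a * b * a⁻¹ * b⁻¹ := by group

theorem comm_mul_central_right {e a b : H} (h1 : Commute e a) (h2 : Commute e b) :
    ⁅a, e * b⁆ = ⁅a, b⁆ := by
  simp only [commutatorElement_def, mul_inv_rev]
  calc a * (e * b) * a⁻¹ * (b⁻¹ * e⁻¹) = (a * e) * b * a⁻¹ * b⁻¹ * e⁻¹ := by group
    _ = (e * a) * b * a⁻¹ * b⁻¹ * e⁻¹ := by rw [h1.eq]
    _ = e * (a * b * a⁻¹ * b⁻¹) * e⁻¹ := by group
    _ = (a * b * a⁻¹ * b⁻¹) * e * e⁻¹ := by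
        rw [(((h1.mul_right h2).mul_right h1.inv_right).mul_right h2.inv_right).eq]
    _ = a * b * a⁻¹ * b⁻¹ := by group

theorem comm_mul_left_of_central {a b c : H} (h : Commute a ⁅b, c⁆) :
    ⁅a * b, c⁆ = ⁅b, c⁆ * ⁅a, c⁆ := by
  calc ⁅a * b, c⁆ = (a * ⁅b, c⁆) * a⁻¹ * ⁅a, c⁆ := by
        simp only [commutatorElement_def]; group
    _ = (⁅b, c⁆ * a) * a⁻¹ * ⁅a, c⁆ := by rw [h.eq]
    _ = ⁅b, c⁆ * ⁅a, c⁆ := by group

theorem conj_commutator (h a b : H) : h * ⁅a, b⁆ * h⁻¹ = ⁅h * a * h⁻¹, h * b * h⁻¹⁆ := by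
  simp only [commutatorElement_def]; group

theorem commute_of_comm_eq_one {a b : H} (h : ⁅a, b⁆ = 1) : Commute a b :=
  commutatorElement_eq_one_iff_mul_comm.1 h

theorem comm_inv_left {a c : H} (h : Commute a ⁅a⁻¹, c⁆) : ⁅a⁻¹, c⁆ = ⁅a, c⁆⁻¹ := by
  have h1 := comm_mul_left_of_central (a := a) (b := a⁻¹) (c := c) h
  rw [mul_inv_cancel, commutatorElement_one_left] at h1
  exact eq_inv_of_mul_eq_one_left h1.symm

/-- The index of the stabilizer divides the number of nontrivial points of a section. -/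
theorem relIndex_dvd_sub_one [Finite H] (N B A S : Subgroup H) [N.Normal] (hNB : N ≤ B)
    (hinv : ∀ a ∈ A, ∀ b ∈ B, a * b * a⁻¹ ∈ B)
    (hstab : ∀ a ∈ A, ∀ b ∈ B, b ∉ N → (⁅a, b⁆ ∈ N ↔ a ∈ S)) :
    S.relIndex A ∣ N.relIndex B - 1 := by
  classical
  set π := QuotientGroup.mk' N with hπ
  let X := {q : H ⧸ N // q ∈ B.map π ∧ q ≠ 1}
  letI : MulAction A X :=
    { smul := fun a q => ⟨π a * q.1 * (π a)⁻¹, by
        obtain ⟨b, hb, hbq⟩ := q.2.1
        exact ⟨a * b * (a : H)⁻¹, hinv a a.2 b hb, by rw [map_mul, map_mul, map_inv, hbq]⟩,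
        fun h => q.2.2 (by
          calc q.1 = (π a)⁻¹ * (π a * q.1 * (π a)⁻¹) * π a := by group
            _ = 1 := by rw [h]; group)⟩
      one_smul := fun q => Subtype.ext (show π ((1 : A) : H) * q.1 * (π ((1 : A) : H))⁻¹ = q.1 by
        rw [OneMemClass.coe_one, map_one, one_mul, inv_one, mul_one])
      mul_smul := fun a c q => Subtype.ext (show π ((a * c : A) : H) * q.1 * (π ((a * c : A) : H))⁻¹ =
          π a * (π c * q.1 * (π c)⁻¹) * (π a)⁻¹ by
        rw [Subgroup.coe_mul, map_mul, mul_inv_rev]; group) }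
  have hst : ∀ x : X, MulAction.stabilizer A x = S.subgroupOf A := by
    rintro ⟨q, ⟨b, hb, hbq⟩, hq1⟩
    have hbN : b ∉ N := fun h => hq1 (by rw [← hbq]; exact (QuotientGroup.eq_one_iff b).2 h)
    ext a
    rw [Subgroup.mem_subgroupOf, MulAction.mem_stabilizer_iff, ← hstab a a.2 b hb hbN]
    refine Iff.trans ?_ (QuotientGroup.eq_one_iff _)
    refine Subtype.ext_iff.trans ?_
    show π a * q * (π a)⁻¹ = q ↔ π ⁅(a : H), b⁆ = 1
    rw [commutatorElement_def, map_mul, map_mul, map_mul, map_inv, map_inv, hbq, mul_inv_eq_one]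
  have h := index_dvd_card (S.subgroupOf A) hst
  have hcard : Nat.card X = N.relIndex B - 1 := by
    rw [show Nat.card X = ((B.map π : Set (H ⧸ N)) \ {1}).ncard from
      Nat.card_coe_set_eq ((B.map π : Set (H ⧸ N)) \ {1}),
      Set.ncard_sdiff_singleton_of_mem (one_mem (B.map π)), ← Nat.card_coe_set_eq]
    congr 1
    rw [SetLike.coe_sort_coe, ← Subgroup.relIndex_ker, hπ, QuotientGroup.ker_mk']
  rwa [hcard] at h

theorem eq_bot_of_commutator_eq [Finite H] {r : ℕ} [Fact r.Prime] {P E : Subgroup H}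
    (hP : IsPGroup r P) (hEP : E ≤ P) (hE : ⁅E, P⁆ = E) : E = ⊥ := by
  haveI : Group.IsNilpotent P := hP.isNilpotent
  obtain ⟨n, hn⟩ := _root_.nilpotent_iff_lowerCentralSeries.1 (inferInstance : Group.IsNilpotent P)
  have key : ∀ k, E ≤ ((⊤ : Subgroup P).lowerCentralSeries k).map P.subtype := by
    intro k
    induction k with
    | zero =>
      intro x hx
      exact ⟨⟨x, hEP hx⟩, by simp, rfl⟩
    | succ k ih =>
      rw [Subgroup.lowerCentralSeries_succ, Subgroup.map_commutator,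
        ← MonoidHom.range_eq_map, Subgroup.range_subtype, ← hE]
      exact Subgroup.commutator_mono ih le_rfl
  refine le_bot_iff.1 ((key n).trans ?_)
  rw [hn, Subgroup.map_bot]

variable (P T : Subgroup H) (r : ℕ) (g : H)

/-- The configuration. -/
structure Setting : Prop where
  le : T ≤ P
  pg : IsPGroup r P
  mem : g ∈ P
  not_mem : g ∉ T
  conj : ∀ x ∈ P, x ∉ T → IsConj g x
  comm : commutator H ≤ P
  comm_mem : ∀ a ∈ P, ∀ b ∈ P, ⁅a, b⁆ ∈ T
  pow_mem : ∀ a ∈ P, a ^ r ∈ T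
  idx : P.index + 1 = T.relIndex P

variable {P T r g}

namespace Setting

variable [Finite H] [hr : Fact r.Prime] [P.Normal] [T.Normal]

theorem change (hS : Setting P T r g) {x : H} (hx : x ∈ P) (hxT : x ∉ T) : Setting P T r x :=
  { hS with
    mem := hx
    not_mem := hxT
    conj := fun y hy hyT => (hS.conj x hx hxT).symm.trans (hS.conj y hy hyT) }

theorem one_lt (hS : Setting P T r g) : 1 < T.relIndex P := by
  have h0 : T.relIndex P ≠ 0 := Subgroup.index_ne_zero_of_finite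
  have h1 : T.relIndex P ≠ 1 := fun h => hS.not_mem (Subgroup.relIndex_eq_one.1 h hS.mem)
  omega

theorem card_eq_mul (hS : Setting P T r g) :
    Nat.card T * T.relIndex P = Nat.card P := by
  rw [← Nat.card_congr (Subgroup.subgroupOfEquivOfLe hS.le).toEquiv]
  exact (T.subgroupOf P).card_mul_index

theorem card_centralizer (hS : Setting P T r g) :
    Nat.card (centralizer ({g} : Set H)) = T.relIndex P := by
  have hset : {x : H | IsConj x g} = (P : Set H) \ (T : Set H) := by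
    ext x
    constructor
    · intro h
      obtain ⟨c, rfl⟩ := isConj_iff.1 (IsConj.symm h)
      exact ⟨Subgroup.Normal.conj_mem inferInstance g hS.mem c, fun h' => hS.not_mem (by
        simpa [mul_assoc] using Subgroup.Normal.conj_mem inferInstance _ h' c⁻¹)⟩
    · rintro ⟨h1, h2⟩
      exact (hS.conj x h1 h2).symm
  have h1 : Nat.card {x : H // IsConj x g} = (centralizer ({g} : Set H)).index := by
    rw [Subgroup.index_eq_card]
    refine Nat.card_congr ?_
    refine (Equiv.trans ?_ (MulAction.orbitEquivQuotientStabilizer (ConjAct H) g)).trans ?_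
    · refine Equiv.subtypeEquivRight fun x => ?_
      rw [ConjAct.mem_orbit_conjAct]
    · exact Quotient.congr ConjAct.ofConjAct.toEquiv fun a b => by
        rw [QuotientGroup.leftRel_apply, QuotientGroup.leftRel_apply,
          ConjAct.stabilizer_eq_centralizer]
        exact Iff.rfl
  have h2 := (centralizer ({g} : Set H)).card_mul_index
  rw [← h1, show Nat.card {x : H // IsConj x g} = ((P : Set H) \ (T : Set H)).ncard by
    rw [← hset]; exact Nat.card_coe_set_eq _, Set.ncard_sdiff hS.le (Set.toFinite _),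
    ← Nat.card_coe_set_eq, ← Nat.card_coe_set_eq, ← P.card_mul_index] at h2
  change Nat.card (centralizer ({g} : Set H)) * (Nat.card P - Nat.card T) = _ at h2
  rw [← hS.card_eq_mul, ← hS.idx, show Nat.card T * (P.index + 1) - Nat.card T =
    Nat.card T * P.index by rw [mul_add, mul_one, Nat.add_sub_cancel]] at h2
  rw [← hS.idx]
  have hpos : 0 < Nat.card T * P.index :=
    Nat.mul_pos Nat.card_pos (Nat.pos_of_ne_zero Subgroup.index_ne_zero_of_finite)
  refine Nat.eq_of_mul_eq_mul_right hpos ?_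
  rw [h2]; ring

theorem centralizer_le (hS : Setting P T r g) : centralizer ({g} : Set H) ≤ P := by
  intro z hz
  obtain ⟨k, hk⟩ := IsPGroup.index hS.pg (T.subgroupOf P)
  have h1 : z ^ T.relIndex P = 1 := by
    rw [← hS.card_centralizer]
    exact congrArg Subtype.val (pow_card_eq_one' (x := (⟨z, hz⟩ : centralizer ({g} : Set H))))
  have h2 : z ^ P.index ∈ P := Subgroup.pow_index_mem P z
  rw [← hS.idx, pow_succ, mul_eq_one_iff_inv_eq] at h1
  exact h1 ▸ P.inv_mem h2

theorem exists_comm (hS : Setting P T r g) {t : H} (ht : t ∈ T) : ∃ y ∈ P, ⁅y, g⁆ = t := by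
  set C := (centralizer ({g} : Set H)).subgroupOf P with hC
  have hinj : ∀ a b : P, a⁻¹ * b ∈ C ↔ ⁅(a : H), g⁆ = ⁅(b : H), g⁆ := by
    intro a b
    rw [hC, Subgroup.mem_subgroupOf, Subgroup.mem_centralizer_singleton_iff, commutatorElement_def,
      commutatorElement_def, mul_left_inj, Subgroup.coe_mul, Subgroup.coe_inv]
    constructor
    · intro h
      calc (a : H) * g * (a : H)⁻¹ = a * (g * ((a : H)⁻¹ * b)) * (b : H)⁻¹ := by group
        _ = a * ((a : H)⁻¹ * b * g) * (b : H)⁻¹ := by rw [h]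
        _ = b * g * (b : H)⁻¹ := by group
    · intro h
      calc (a : H)⁻¹ * b * g = (a : H)⁻¹ * ((b : H) * g * (b : H)⁻¹) * b := by group
        _ = (a : H)⁻¹ * ((a : H) * g * (a : H)⁻¹) * b := by rw [h]
        _ = g * ((a : H)⁻¹ * b) := by group
  let f : P ⧸ C → T := Quotient.lift (fun y => ⟨⁅(y : H), g⁆, hS.comm_mem y y.2 g hS.mem⟩)
    fun a b hab => Subtype.ext ((hinj a b).1 (QuotientGroup.leftRel_apply.1 hab))
  have hf : Function.Injective f := by
    rintro ⟨a⟩ ⟨b⟩ h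
    exact Quotient.sound (QuotientGroup.leftRel_apply.2 ((hinj a b).2 (congrArg Subtype.val h)))
  have hcard : Nat.card (P ⧸ C) = Nat.card T := by
    have h := C.card_mul_index
    rw [Nat.card_congr (Subgroup.subgroupOfEquivOfLe hS.centralizer_le).toEquiv,
      hS.card_centralizer, Subgroup.index_eq_card, ← hS.card_eq_mul, mul_comm] at h
    exact Nat.eq_of_mul_eq_mul_right (by have := hS.one_lt; omega) h
  obtain ⟨⟨y⟩, hy⟩ := ((Nat.bijective_iff_injective_and_card f).2 ⟨hf, hcard⟩).2 ⟨t, ht⟩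
  exact ⟨y, y.2, congrArg Subtype.val hy⟩

theorem mem_of_comm_mem (hS : Setting P T r g) {h : H} (hh : ⁅h, g⁆ ∈ T) : h ∈ P := by
  obtain ⟨y, hy, hyh⟩ := hS.exists_comm hh
  have : y⁻¹ * h ∈ centralizer ({g} : Set H) := by
    rw [Subgroup.mem_centralizer_singleton_iff]
    rw [commutatorElement_def, commutatorElement_def, mul_left_inj] at hyh
    calc y⁻¹ * h * g = y⁻¹ * (h * g * h⁻¹) * h := by group
      _ = y⁻¹ * (y * g * y⁻¹) * h := by rw [hyh]
      _ = g * (y⁻¹ * h) := by group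
  simpa using P.mul_mem hy (hS.centralizer_le this)

theorem card_lt (hS : Setting P T r g) {A : Subgroup H} (hA : A ≤ T)
    (hcomm : ∀ a ∈ A, Commute a g) : Nat.card A < T.relIndex P := by
  rw [← hS.card_centralizer]
  have hle : A ≤ centralizer ({g} : Set H) := fun a ha =>
    Subgroup.mem_centralizer_singleton_iff.2 (hcomm a ha).eq
  refine lt_of_le_of_ne (Subgroup.card_le_of_le hle) fun he => ?_
  have h := Subgroup.eq_of_le_of_card_ge hle he.ge
  exact hS.not_mem (hA (h ▸ Subgroup.mem_centralizer_singleton_iff.2 rfl))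

theorem quot (hS : Setting P T r g) (L : Subgroup H) [L.Normal] (hL : L ≤ T) :
    Setting (P.map (QuotientGroup.mk' L)) (T.map (QuotientGroup.mk' L)) r (QuotientGroup.mk' L g) ∧
      (T.map (QuotientGroup.mk' L)).relIndex (P.map (QuotientGroup.mk' L)) = T.relIndex P := by
  set π := QuotientGroup.mk' L with hπ
  have hcomap : (T.map π).comap π = T := by
    rw [Subgroup.comap_map_eq, hπ, QuotientGroup.ker_mk']; exact sup_eq_left.2 hL
  have hm : ∀ {x : H}, π x ∈ T.map π ↔ x ∈ T := fun {x} => by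
    rw [← Subgroup.mem_comap, hcomap]
  have hrel : (T.map π).relIndex (P.map π) = T.relIndex P := by
    rw [← Subgroup.relIndex_comap, hcomap]
  refine ⟨⟨Subgroup.map_mono hS.le, hS.pg.map π, ⟨g, hS.mem, rfl⟩, fun h => hS.not_mem (hm.1 h),
    ?_, ?_, ?_, ?_, ?_⟩, hrel⟩
  · rintro x ⟨y, hy, rfl⟩ hyT
    exact π.map_isConj (hS.conj y hy fun h => hyT (hm.2 h))
  · rw [commutator_def, ← Subgroup.map_top_of_surjective π (QuotientGroup.mk'_surjective L),
      ← Subgroup.map_commutator, ← commutator_def]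
    exact Subgroup.map_mono hS.comm
  · rintro a ⟨x, hx, rfl⟩ b ⟨y, hy, rfl⟩
    rw [← map_commutatorElement]
    exact ⟨_, hS.comm_mem x hx y hy, rfl⟩
  · rintro a ⟨x, hx, rfl⟩
    exact ⟨_, hS.pow_mem x hx, map_pow π x r⟩
  · rw [hrel, Subgroup.index_map_eq (H := P) (QuotientGroup.mk'_surjective L)
      (by rw [QuotientGroup.ker_mk']; exact hL.trans hS.le)]
    exact hS.idx

/-- If `[T, P]` is central in `P` then it is trivial. -/
theorem core (hS : Setting P T r g) (hE : ∀ e ∈ ⁅T, P⁆, ∀ y ∈ P, Commute e y) : ⁅T, P⁆ = ⊥ := by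
  classical
  set E := ⁅T, P⁆ with hEdef
  haveI hEn : E.Normal := Subgroup.commutator_normal T P
  have hET : E ≤ T := Subgroup.commutator_le_left T P
  set Z := T ⊓ centralizer (P : Set H) with hZ
  haveI : (centralizer (P : Set H)).Normal := inferInstance
  haveI hZn : Z.Normal := Subgroup.normal_inf_normal _ _
  have hEZ : E ≤ Z := fun e he => ⟨hET he, fun y hy => ((hE e he y hy).symm).eq⟩
  by_cases hTZ : T ≤ Z
  · rw [eq_bot_iff, hEdef, Subgroup.commutator_le]
    intro t ht y hy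
    exact Subgroup.mem_bot.2 (commutatorElement_eq_one_iff_mul_comm.2 ((hTZ ht).2 y hy).symm)
  exfalso
  obtain ⟨a, ha⟩ := IsPGroup.index hS.pg (T.subgroupOf P)
  change T.relIndex P = r ^ a at ha
  -- `|T : E| < |P : T|`
  have hTE : E.relIndex T < T.relIndex P := by
    obtain ⟨hq, hrel⟩ := hS.quot E hET
    rw [← hrel]
    refine lt_of_eq_of_lt ?_ (hq.card_lt le_rfl ?_)
    · rw [← Subgroup.relIndex_ker, QuotientGroup.ker_mk']
    · rintro _ ⟨t, ht, rfl⟩
      refine commute_of_comm_eq_one ?_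
      rw [← map_commutatorElement]
      exact (QuotientGroup.eq_one_iff _).2 (Subgroup.commutator_mem_commutator ht hS.mem)
  -- a minimal normal subgroup above `Z`
  obtain ⟨M, ⟨hMn, hZM, hMT⟩, hmin⟩ := wellFounded_lt.has_min
    {M : Subgroup H | M.Normal ∧ Z < M ∧ M ≤ T}
    ⟨T, inferInstance, lt_of_le_not_ge inf_le_left hTZ, le_rfl⟩
  haveI := hMn
  set π := QuotientGroup.mk' Z with hπ
  set S := (centralizer ((M.map π : Subgroup (H ⧸ Z)) : Set (H ⧸ Z))).comap π with hSdef
  have hSmem : ∀ h : H, h ∈ S ↔ ∀ w ∈ M, ⁅h, w⁆ ∈ Z := by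
    intro h
    rw [hSdef, Subgroup.mem_comap, Subgroup.mem_centralizer_iff]
    constructor
    · intro hh w hw
      rw [← QuotientGroup.eq_one_iff]
      show π ⁅h, w⁆ = 1
      rw [map_commutatorElement, commutatorElement_eq_one_iff_mul_comm]
      exact (hh _ ⟨w, hw, rfl⟩).symm
    · rintro hh _ ⟨w, hw, rfl⟩
      refine (commute_of_comm_eq_one ?_).symm.eq
      rw [← map_commutatorElement]
      exact (QuotientGroup.eq_one_iff _).2 (hh w hw)
  have hPS : P ≤ S := fun y hy => (hSmem y).2 fun w hw => hEZ (by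
    rw [hEdef, Subgroup.commutator_comm]
    exact Subgroup.commutator_mem_commutator hy (hMT hw))
  have hone : ∀ h : H, ∀ w ∈ M, w ∉ Z → ⁅h, w⁆ ∈ Z → h ∈ S := by
    intro h w hw hwZ hhw
    set Mh := M ⊓ (centralizer ({π h} : Set (H ⧸ Z))).comap π with hMh
    have hmemMh : ∀ v ∈ M, (v ∈ Mh ↔ ⁅h, v⁆ ∈ Z) := by
      intro v hv
      rw [hMh, Subgroup.mem_inf, Subgroup.mem_comap, Subgroup.mem_centralizer_singleton_iff,
        ← QuotientGroup.eq_one_iff (N := Z) ⁅h, v⁆]
      show (v ∈ M ∧ π v * π h = π h * π v) ↔ π ⁅h, v⁆ = 1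
      rw [map_commutatorElement, commutatorElement_eq_one_iff_mul_comm]
      exact ⟨fun h' => h'.2.symm, fun h' => ⟨hv, h'.symm⟩⟩
    have hMhn : Mh.Normal := by
      refine ⟨fun v hv k => ?_⟩
      have hvM : v ∈ M := hv.1
      rw [hmemMh _ (hMn.conj_mem v hvM k)]
      have h1 : ⁅h, v⁆ ∈ Z := (hmemMh v hvM).1 hv
      have h2 : ⁅k⁻¹ * h * k * h⁻¹, v⁆ ∈ Z := (hSmem _).1 (hPS (hS.comm (by
        rw [show k⁻¹ * h * k * h⁻¹ = ⁅k⁻¹, h⁆ by simp [commutatorElement_def]]
        exact Subgroup.commutator_mem_commutator (mem_top _) (mem_top _)))) v hvM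
      have e1 : π ⁅h, k * v * k⁻¹⁆ = 1 := by
        rw [map_commutatorElement]
        have c1 : Commute (π h) (π v) := commute_of_comm_eq_one (by
          rw [← map_commutatorElement]; exact (QuotientGroup.eq_one_iff _).2 h1)
        have c2 : Commute (π (k⁻¹ * h * k * h⁻¹)) (π v) := commute_of_comm_eq_one (by
          rw [← map_commutatorElement]; exact (QuotientGroup.eq_one_iff _).2 h2)
        have c3 := (c2.mul_left c1)
        rw [← map_mul, show k⁻¹ * h * k * h⁻¹ * h = k⁻¹ * h * k by group, map_mul, map_mul,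
          map_inv] at c3
        rw [commutatorElement_eq_one_iff_mul_comm, map_mul, map_mul, map_inv]
        calc π h * (π k * π v * (π k)⁻¹) = π k * (((π k)⁻¹ * π h * π k) * π v) * (π k)⁻¹ := by group
          _ = π k * (π v * ((π k)⁻¹ * π h * π k)) * (π k)⁻¹ := by rw [c3.eq]
          _ = π k * π v * (π k)⁻¹ * π h := by group
      exact (QuotientGroup.eq_one_iff _).1 e1
    have hlt : Z < Mh := lt_of_le_not_ge (fun z hz => (hmemMh z (hZM.le hz)).2 (by
      rw [show ⁅h, z⁆ = h * z * h⁻¹ * z⁻¹ by simp [commutatorElement_def]]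
      exact Z.mul_mem (hZn.conj_mem z hz h) (Z.inv_mem hz)))
      fun hle => hwZ (hle ((hmemMh w hw).2 hhw))
    have hnlt := hmin Mh ⟨hMhn, hlt, inf_le_left.trans hMT⟩
    have hM_le : M ≤ Mh := by
      by_contra hc
      exact hnlt (lt_of_le_not_ge inf_le_left hc)
    exact (hSmem h).2 fun v hv => (hmemMh v hv).1 (hM_le hv)
  obtain ⟨w, hwM, hwZ⟩ := SetLike.exists_of_lt hZM
  have hwT : w ∈ T := hMT hwM
  have hcw : ∀ y ∈ P, ⁅w, y⁆ ∈ E := fun y hy => Subgroup.commutator_mem_commutator hwT hy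
  set B := P ⊓ centralizer ({w} : Set H) with hB
  have hTB : T ≤ B := by
    intro t ht
    refine ⟨hS.le ht, Subgroup.mem_centralizer_singleton_iff.2 ?_⟩
    obtain ⟨y, hy, rfl⟩ := hS.exists_comm ht
    have e1 := hE _ (hcw y hy)
    have e2 := hE _ (hcw g hS.mem)
    have hconj : w * ⁅y, g⁆ * w⁻¹ = ⁅y, g⁆ := by
      rw [conj_commutator, show w * y * w⁻¹ = ⁅w, y⁆ * y by simp [commutatorElement_def],
        show w * g * w⁻¹ = ⁅w, g⁆ * g by simp [commutatorElement_def],
        comm_mul_central_left (e1 y hy) (e1 _ (P.mul_mem (hS.le (hET (hcw g hS.mem))) hS.mem)),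
        comm_mul_central_right (e2 y hy) (e2 g hS.mem)]
    exact (mul_inv_eq_iff_eq_mul.1 hconj).symm
  have hBP : ¬ P ≤ B := fun h => hwZ ⟨hwT, fun y hy =>
    Subgroup.mem_centralizer_singleton_iff.1 (h hy).2⟩
  have hBT : ¬ B ≤ T := by
    intro hle
    have hker : ∀ x y : P, x⁻¹ * y ∈ T.subgroupOf P ↔ ⁅w, (x : H)⁆ = ⁅w, (y : H)⁆ := by
      intro x y
      rw [Subgroup.mem_subgroupOf, Subgroup.coe_mul, Subgroup.coe_inv]
      have hsplit : ∀ c ∈ P, ⁅w, (x : H) * c⁆ = ⁅w, (x : H)⁆ * ⁅w, c⁆ := by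
        intro c hc
        have hcm := hE _ (hcw c hc) x x.2
        calc ⁅w, (x : H) * c⁆ = ⁅w, (x : H)⁆ * (x * ⁅w, c⁆) * (x : H)⁻¹ := by
              simp only [commutatorElement_def]; group
          _ = ⁅w, (x : H)⁆ * (⁅w, c⁆ * x) * (x : H)⁻¹ := by rw [hcm.symm.eq]
          _ = ⁅w, (x : H)⁆ * ⁅w, c⁆ := by group
      have hc : (x : H)⁻¹ * y ∈ P := P.mul_mem (P.inv_mem x.2) y.2
      have h1 := hsplit _ hc
      rw [mul_inv_cancel_left] at h1
      rw [h1, left_eq_mul, commutatorElement_eq_one_iff_mul_comm]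
      exact ⟨fun h => (Subgroup.mem_centralizer_singleton_iff.1 (hTB h).2).symm,
        fun h => hle ⟨hc, Subgroup.mem_centralizer_singleton_iff.2 h.symm⟩⟩
    let f : P ⧸ T.subgroupOf P → E := Quotient.lift (fun y => ⟨⁅w, (y : H)⁆, hcw y y.2⟩)
      fun x y hxy => Subtype.ext ((hker x y).1 (QuotientGroup.leftRel_apply.1 hxy))
    have hf : Function.Injective f := by
      rintro ⟨x⟩ ⟨y⟩ h
      exact Quotient.sound (QuotientGroup.leftRel_apply.2 ((hker x y).2 (congrArg Subtype.val h)))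
    have h1 := Nat.card_le_card_of_injective f hf
    have h2 := hS.card_lt hET (fun e he => hE e he g hS.mem)
    rw [← Subgroup.index_eq_card] at h1
    exact absurd h1 (Nat.not_le.2 h2)
  -- the two semiregular actions
  have hA : S.index ∣ Z.relIndex M - 1 := by
    rw [← Subgroup.relIndex_top_right]
    refine relIndex_dvd_sub_one Z M ⊤ S hZM.le (fun a _ b hb => hMn.conj_mem b hb a) ?_
    exact fun a _ b hb hbZ => ⟨hone a b hb hbZ, fun h => (hSmem a).1 h b hb⟩
  have hB' : P.relIndex S ∣ T.relIndex B - 1 := by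
    refine relIndex_dvd_sub_one T B S P hTB ?_ ?_
    · intro s hs b hb
      refine ⟨Subgroup.Normal.conj_mem inferInstance b hb.1 s,
        Subgroup.mem_centralizer_singleton_iff.2 ?_⟩
      have hz : ⁅s⁻¹, w⁆ ∈ Z := (hSmem _).1 (S.inv_mem hs) w hwM
      have hbw : Commute b w := Subgroup.mem_centralizer_singleton_iff.1 hb.2
      have hzb : Commute (⁅s⁻¹, w⁆ * w) b :=
        (hz.2 b hb.1 : b * _ = _).symm |> fun h => Commute.mul_left h hbw.symm
      rw [show ⁅s⁻¹, w⁆ * w = s⁻¹ * w * s by simp [commutatorElement_def]] at hzb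
      calc s * b * s⁻¹ * w = s * (b * (s⁻¹ * w * s)) * s⁻¹ := by group
        _ = s * ((s⁻¹ * w * s) * b) * s⁻¹ := by rw [hzb.eq]
        _ = w * (s * b * s⁻¹) := by group
    · intro s _ b hb hbT
      exact ⟨fun h => (hS.change hb.1 hbT).mem_of_comm_mem h, fun h => hS.comm_mem s h b hb.1⟩
  -- the numbers
  obtain ⟨d, hd⟩ : ∃ d, Z.relIndex M = r ^ d :=
    IsPGroup.index (hS.pg.to_le (hMT.trans hS.le)) (Z.subgroupOf M)
  obtain ⟨b, hb⟩ : ∃ b, T.relIndex B = r ^ b :=
    IsPGroup.index (hS.pg.to_le inf_le_left) (T.subgroupOf B)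
  have hr1 := hr.out.one_lt
  refine num_contra hr1 (a := a) (d := d) (b := b) ?_ ?_ ?_ ?_ (hd ▸ hA) (hb ▸ hB') ?_
  · rcases Nat.eq_zero_or_pos d with rfl | h
    · exact absurd (Subgroup.relIndex_eq_one.1 (by simpa using hd)) (fun h => hwZ (h hwM))
    · exact h
  · refine (Nat.pow_lt_pow_iff_right hr1).1 (hd ▸ ha ▸ lt_of_le_of_lt ?_ hTE)
    calc Z.relIndex M ≤ E.relIndex M :=
          Nat.le_of_dvd (Nat.pos_of_ne_zero Subgroup.index_ne_zero_of_finite)
            (Subgroup.relIndex_dvd_of_le_left M hEZ)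
      _ ≤ E.relIndex T := Subgroup.relIndex_le_of_le_right hMT Subgroup.index_ne_zero_of_finite
  · rcases Nat.eq_zero_or_pos b with rfl | h
    · exact absurd (Subgroup.relIndex_eq_one.1 (by simpa using hb)) hBT
    · exact h
  · refine (Nat.pow_lt_pow_iff_right hr1).1 (hb ▸ ha ▸ ?_)
    have h1 := Subgroup.relIndex_mul_relIndex T B P hTB inf_le_left
    have h2 : B.relIndex P ≠ 1 := fun h => hBP (Subgroup.relIndex_eq_one.1 h)
    have h3 : B.relIndex P ≠ 0 := Subgroup.index_ne_zero_of_finite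
    have h4 : 0 < T.relIndex B := Nat.pos_of_ne_zero Subgroup.index_ne_zero_of_finite
    have h5 : T.relIndex B * 2 ≤ T.relIndex B * B.relIndex P :=
      Nat.mul_le_mul_left _ (by omega)
    omega
  · rw [mul_comm, Subgroup.relIndex_mul_index hPS, hS.idx, ha]

/-- `T` is central in `P`. -/
theorem commute (hS : Setting P T r g) {t : H} (ht : t ∈ T) {y : H} (hy : y ∈ P) : Commute t y := by
  suffices h : ⁅T, P⁆ = ⊥ from
    commute_of_comm_eq_one (Subgroup.mem_bot.1 (h ▸ Subgroup.commutator_mem_commutator ht hy))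
  set E := ⁅T, P⁆ with hE
  haveI : E.Normal := Subgroup.commutator_normal T P
  set L := ⁅E, P⁆ with hL
  haveI : L.Normal := Subgroup.commutator_normal E P
  have hLE : L ≤ E := Subgroup.commutator_le_left E P
  have hET : E ≤ T := Subgroup.commutator_le_left T P
  obtain ⟨hq, -⟩ := hS.quot L (hLE.trans hET)
  have h0 := hq.core (fun e he z hz => by
    rw [← Subgroup.map_commutator] at he
    obtain ⟨e', he', rfl⟩ := he
    obtain ⟨z', hz', rfl⟩ := hz
    refine commute_of_comm_eq_one ?_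
    rw [← map_commutatorElement]
    exact (QuotientGroup.eq_one_iff _).2 (Subgroup.commutator_mem_commutator he' hz'))
  rw [← Subgroup.map_commutator, Subgroup.map_eq_bot_iff, QuotientGroup.ker_mk'] at h0
  exact eq_bot_of_commutator_eq hS.pg (hET.trans hS.le) (le_antisymm hLE h0)

/-- For odd `r` some element outside `T` has order `r`. -/
theorem exists_pow_eq_one (hS : Setting P T r g) (h2 : r ≠ 2) : g ^ r = 1 := by
  have hodd : Odd r := hr.out.odd_of_ne_two h2
  obtain ⟨n, hn⟩ : ∃ n, orderOf g = r ^ n := by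
    obtain ⟨n, hn⟩ := IsPGroup.iff_orderOf.1 hS.pg ⟨g, hS.mem⟩
    exact ⟨n, by rw [← hn, Subgroup.orderOf_mk]⟩
  obtain ⟨h, hh⟩ := isConj_iff.1 (hS.conj g⁻¹ (P.inv_mem hS.mem) fun h => hS.not_mem (by
    simpa using T.inv_mem h))
  have hhP : h * h ∈ P := by
    refine hS.centralizer_le (Subgroup.mem_centralizer_singleton_iff.2 ?_)
    calc h * h * g = h * (h * g * h⁻¹) * h := by group
      _ = h * g⁻¹ * h := by rw [hh]
      _ = (h * g * h⁻¹)⁻¹ * (h * h) := by group
      _ = g * (h * h) := by rw [hh, inv_inv]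
  have hhn : h ∉ P := fun hP => by
    have h1 := hS.comm_mem h hP g hS.mem
    rw [commutatorElement_def, hh, ← mul_inv_rev, T.inv_mem_iff, ← pow_two] at h1
    refine hS.not_mem ?_
    obtain ⟨k, hk⟩ : Odd (orderOf g) := hn ▸ hodd.pow
    have h3 : (g ^ 2) ^ (k + 1) = g := by
      rw [← pow_mul, show 2 * (k + 1) = orderOf g + 1 by omega, pow_succ, pow_orderOf_eq_one,
        one_mul]
    exact h3 ▸ T.pow_mem h1 _
  -- `h` inverts `P` modulo `T`
  have hinv : ∀ y ∈ P, ∃ t ∈ T, h * y * h⁻¹ = t * y⁻¹ := by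
    intro y hy
    refine ⟨h * y * h⁻¹ * y, ?_, by group⟩
    by_contra hxT
    have hyP : h * y * h⁻¹ ∈ P := Subgroup.Normal.conj_mem inferInstance y hy h
    refine hhn ((hS.change (P.mul_mem hyP hy) hxT).mem_of_comm_mem ?_)
    set π := QuotientGroup.mk' T with hπ
    rw [← QuotientGroup.eq_one_iff]
    show π ⁅h, h * y * h⁻¹ * y⁆ = 1
    have c1 : Commute (π (h * h)) (π y) := commute_of_comm_eq_one (by
      rw [← map_commutatorElement]; exact (QuotientGroup.eq_one_iff _).2 (hS.comm_mem _ hhP y hy))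
    have c2 : Commute (π (h * y * h⁻¹)) (π y) := commute_of_comm_eq_one (by
      rw [← map_commutatorElement]; exact (QuotientGroup.eq_one_iff _).2 (hS.comm_mem _ hyP y hy))
    simp only [map_mul, map_inv] at c1 c2
    rw [map_commutatorElement, commutatorElement_eq_one_iff_mul_comm]
    simp only [map_mul, map_inv]
    calc π h * (π h * π y * (π h)⁻¹ * π y) = (π h * π h * π y) * ((π h)⁻¹ * π y) := by group
      _ = (π y * (π h * π h)) * ((π h)⁻¹ * π y) := by rw [c1.eq]
      _ = (π y * (π h * π y * (π h)⁻¹)) * π h := by group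
      _ = (π h * π y * (π h)⁻¹ * π y) * π h := by rw [c2.eq]
  -- `h` centralizes `T`
  have hfix : ∀ t ∈ T, h * t * h⁻¹ = t := by
    intro t ht
    obtain ⟨y, hy, rfl⟩ := hS.exists_comm ht
    obtain ⟨t', ht', hy'⟩ := hinv y hy
    rw [conj_commutator, hy', hh,
      comm_mul_central_left (hS.commute ht' (P.inv_mem hy)) (hS.commute ht' (P.inv_mem hS.mem)),
      comm_inv_left ((hS.commute (hS.comm_mem _ (P.inv_mem hy) _ (P.inv_mem hS.mem)) hy).symm)]
    have e1 : ⁅g⁻¹, y⁆ = ⁅g, y⁆⁻¹ :=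
      comm_inv_left ((hS.commute (hS.comm_mem _ (P.inv_mem hS.mem) _ hy) hS.mem).symm)
    rw [commutatorElement_inv, e1, commutatorElement_inv]
  have h3 := hfix _ (hS.pow_mem g hS.mem)
  rw [← conj_pow, hh, inv_pow] at h3
  have h4 : (g ^ r) ^ 2 = 1 := by
    rw [pow_two]
    exact mul_eq_one_iff_inv_eq.2 h3
  obtain ⟨k, hk⟩ : Odd (orderOf g) := hn ▸ hodd.pow
  have h5 : (g ^ r) ^ orderOf g = 1 := by
    rw [← pow_mul, mul_comm, pow_mul, pow_orderOf_eq_one, one_pow]
  rw [hk, pow_succ, pow_mul, h4, one_pow, one_mul] at h5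
  exact h5

end Setting

end CfsgLib.OneCharElement
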