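import Cfsg.Agent.OneCharElement.Basic
import Cfsg.Agent.OneCharElement.Camina
import Cfsg.Agent.Characters.Induction
import Cfsg.Agent.S4456
import Cfsg.Agent.S0033
import Cfsg.Agent.S0205

/-!
# A group with an element seen by only one nonlinear character is solvable
-/

set_option autoImplicit false
set_option linter.style.haveILetI false
set_option linter.unusedSectionVars false

namespace CfsgLib.OneCharElement

open CfsgLib.Characters
open scoped ComplexConjugate commutatorElement

universe u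

theorem solvable_of_extension {A : Type u} [Group A] (N : Subgroup A) [N.Normal]
    (h1 : Group.IsSolvable N) (h2 : Group.IsSolvable (A ⧸ N)) : Group.IsSolvable A :=
  solvable_of_ker_le_range N.subtype (QuotientGroup.mk' N)
    (by rw [QuotientGroup.ker_mk', Subgroup.range_subtype])

theorem solvable_of_commutator {A : Type u} [Group A] (P : Subgroup A) [P.Normal]
    (hP : commutator A ≤ P) (h : Group.IsSolvable P) : Group.IsSolvable A := by
  refine solvable_of_extension P h ?_
  haveI : IsMulCommutative (A ⧸ P) := ⟨⟨fun a b => by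
    obtain ⟨a, rfl⟩ := QuotientGroup.mk'_surjective P a
    obtain ⟨b, rfl⟩ := QuotientGroup.mk'_surjective P b
    refine (commute_of_comm_eq_one ?_).eq
    rw [← map_commutatorElement]
    exact (QuotientGroup.eq_one_iff _).2
      (hP (Subgroup.commutator_mem_commutator (Subgroup.mem_top a) (Subgroup.mem_top b)))⟩⟩
  exact Group.isSolvable_of_comm fun a b => mul_comm' a b

theorem eq_one_of_coprime_orders {A : Type*} [Group A] {x : A} {a b : ℕ} (hab : Nat.Coprime a b)
    (ha : x ^ a = 1) (hb : x ^ b = 1) : x = 1 := by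
  rw [← orderOf_eq_one_iff]
  exact Nat.eq_one_of_dvd_coprimes hab (orderOf_dvd_of_pow_eq_one ha) (orderOf_dvd_of_pow_eq_one hb)

/-- A constituent of a character trivial on a subgroup with abelian quotient is linear. -/
theorem linear_of_constituent {A : Type u} [Group A] [Fintype A] (L : Subgroup A) [L.Normal]
    (hL : commutator A ≤ L) {F : A → ℂ} (hF : Cfsg.IsCharacter A F) (hFL : ∀ x ∈ L, F x = F 1)
    (θ : Cfsg.IrrCharacter A) (hne : Cfsg.classInner F (θ : A → ℂ) ≠ 0) : (θ : A → ℂ) 1 = 1 := by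
  classical
  obtain ⟨n, ρ, rfl⟩ := hF
  have hker : L ≤ MonoidHom.ker ρ := fun x hx =>
    MonoidHom.mem_ker.2 ((char_eq_finrank_iff ρ x).1 ((hFL x hx).trans (Representation.char_one ρ)))
  haveI : Fintype (A ⧸ L) := Fintype.ofFinite _
  haveI : IsMulCommutative (A ⧸ L) := ⟨⟨fun a b => by
    obtain ⟨a, rfl⟩ := QuotientGroup.mk'_surjective L a
    obtain ⟨b, rfl⟩ := QuotientGroup.mk'_surjective L b
    refine (commute_of_comm_eq_one ?_).eq
    rw [← map_commutatorElement]
    exact (QuotientGroup.eq_one_iff _).2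
      (hL (Subgroup.commutator_mem_commutator (Subgroup.mem_top a) (Subgroup.mem_top b)))⟩⟩
  set σ : Representation ℂ (A ⧸ L) (Fin n → ℂ) := QuotientGroup.lift L ρ hker with hσ
  have hexp := character_expansion (G := A ⧸ L) ⟨n, σ, rfl⟩
  have hfun : ρ.character = ∑ μ : Cfsg.IrrCharacter (A ⧸ L),
      Cfsg.classInner σ.character (μ : A ⧸ L → ℂ) •
        (fun a : A => (μ : A ⧸ L → ℂ) (QuotientGroup.mk' L a)) := by
    funext a
    have h := congrFun hexp (QuotientGroup.mk' L a)
    simp only [Finset.sum_apply, Pi.smul_apply] at h ⊢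
    exact h
  rw [hfun, classInner_sum_left] at hne
  obtain ⟨μ, -, hμ⟩ := Finset.exists_ne_zero_of_sum_ne_zero hne
  rw [classInner_smul_left] at hμ
  have hirr := isIrr_comp (QuotientGroup.mk' L) (QuotientGroup.mk'_surjective L) μ.2
  by_contra hθ
  refine right_ne_zero_of_mul hμ (classInner_isIrr_ne hirr θ.2 fun e => hθ ?_)
  rw [← e]
  show (μ : A ⧸ L → ℂ) (QuotientGroup.mk' L 1) = 1
  rw [map_one]
  exact GaloisAverage.irr_one_eq_one μ.2

variable {G : Type u} [Group G] [Fintype G] {g : G} {χ : Cfsg.IrrCharacter G}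

namespace Seen

theorem conjugates_ncard (hS : Seen g χ) :
    ((commutator G : Set G) \ (hS.ker : Set G)).ncard =
      (Subgroup.centralizer ({g} : Set G)).index := by
  rw [← card_conjugates_eq_index, ← Nat.card_coe_set_eq]
  exact Nat.card_congr (Equiv.subtypeEquivRight fun x =>
    hS.mem_sdiff_iff.trans ⟨IsConj.symm, IsConj.symm⟩)

theorem exists_prime (hS : Seen g χ) :
    ∃ r : ℕ, r.Prime ∧ ∀ x ∈ commutator G, x ^ r ∈ hS.ker := by
  haveI := hS.ker_normal
  set π := QuotientGroup.mk' hS.ker with hπ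
  have hone : ∀ x : G, π x = 1 ↔ x ∈ hS.ker := fun x => QuotientGroup.eq_one_iff x
  set o := orderOf (π g) with ho
  have ho1 : o ≠ 1 := fun h => hS.not_mem_ker ((hone g).1 (orderOf_eq_one_iff.1 h))
  have hr : o.minFac.Prime := Nat.minFac_prime ho1
  have hord : ∀ x ∈ commutator G, x ∉ hS.ker → orderOf (π x) = o := by
    intro x hx hxK
    obtain ⟨c, rfl⟩ := isConj_iff.1 (hS.mem_sdiff_iff.1 ⟨hx, hxK⟩)
    rw [map_mul, map_mul, map_inv, ho]
    exact MulEquiv.orderOf_eq (MulAut.conj (π c)) (π g)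
  obtain ⟨q, hq⟩ := Nat.minFac_dvd o
  have hqo : orderOf (π (g ^ q)) = o.minFac := by
    have hq0 : 0 < q := Nat.pos_of_ne_zero fun h => (orderOf_pos (π g)).ne' (by
      rw [← ho, hq, h, mul_zero])
    rw [map_pow, orderOf_pow' _ hq0.ne', ← ho]
    conv_lhs => rw [hq]
    rw [Nat.gcd_eq_right (Dvd.intro_left _ rfl), Nat.mul_div_cancel _ hq0]
  have hk : g ^ q ∉ hS.ker := fun h => hr.ne_one (by
    rw [← hqo, orderOf_eq_one_iff]; exact (hone _).2 h)
  have heq : o = o.minFac :=
    (hord _ (Subgroup.pow_mem _ hS.mem_commutator q) hk).symm.trans hqo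
  refine ⟨o.minFac, hr, fun x hx => ?_⟩
  by_cases hxK : x ∈ hS.ker
  · exact Subgroup.pow_mem _ hxK _
  · rw [← hone, map_pow, ← heq, ← hord x hx hxK, pow_orderOf_eq_one]

section Prime

variable {r : ℕ} [hr : Fact r.Prime]

theorem exists_pow (hS : Seen g χ) (hpow : ∀ x ∈ commutator G, x ^ r ∈ hS.ker) :
    ∃ e : ℕ, g ^ r ^ e = 1 := by
  set o := orderOf g with ho
  set e := o.factorization r with he
  set t := o / r ^ e with ht
  have ho0 : o ≠ 0 := (orderOf_pos g).ne'
  have hrt : ¬ r ∣ t := Nat.not_dvd_ordCompl hr.out ho0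
  have hte : r ^ e * t = o := Nat.mul_div_cancel' (Nat.ordProj_dvd o r)
  haveI := hS.ker_normal
  have hk : g ^ t ∉ hS.ker := fun h => hS.not_mem_ker (by
    rw [← QuotientGroup.eq_one_iff]
    refine eq_one_of_coprime_orders ((Nat.Prime.coprime_iff_not_dvd hr.out).2 hrt) ?_ ?_
    · rw [← QuotientGroup.mk_pow, QuotientGroup.eq_one_iff]; exact hpow g hS.mem_commutator
    · rw [← QuotientGroup.mk_pow, QuotientGroup.eq_one_iff]; exact h)
  have hc : orderOf (g ^ t) = o := by
    obtain ⟨c, hc⟩ := isConj_iff.1 (hS.mem_sdiff_iff.1 ⟨Subgroup.pow_mem _ hS.mem_commutator t, hk⟩)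
    rw [← hc, ho]
    exact MulEquiv.orderOf_eq (MulAut.conj c) g
  refine ⟨e, orderOf_dvd_iff_pow_eq_one.1 ?_⟩
  rw [← ho, ← hc]
  refine orderOf_dvd_of_pow_eq_one ?_
  rw [← pow_mul, mul_comm, hte, ho, pow_orderOf_eq_one]

theorem comm_mem_ker (hS : Seen g χ) (hpow : ∀ x ∈ commutator G, x ^ r ∈ hS.ker) :
    ∀ a ∈ commutator G, ∀ b ∈ commutator G, ⁅a, b⁆ ∈ hS.ker := by
  haveI := hS.ker_normal
  set π := QuotientGroup.mk' hS.ker with hπ
  set V := (commutator G).map π with hV
  have hVp : IsPGroup r V := by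
    rintro ⟨_, x, hx, rfl⟩
    refine ⟨1, Subtype.ext ?_⟩
    show π x ^ r ^ 1 = 1
    rw [pow_one, ← map_pow]
    exact (QuotientGroup.eq_one_iff _).2 (hpow x hx)
  haveI : Nontrivial V := ⟨⟨⟨π g, g, hS.mem_commutator, rfl⟩, 1, fun h =>
    hS.not_mem_ker ((QuotientGroup.eq_one_iff g).1 (congrArg Subtype.val h))⟩⟩
  haveI := hVp.center_nontrivial
  obtain ⟨⟨⟨_, x, hx, rfl⟩, hxc⟩, hne⟩ := exists_ne (1 : Subgroup.center V)
  have hxK : x ∉ hS.ker := fun h =>
    hne (Subtype.ext (Subtype.ext ((QuotientGroup.eq_one_iff x).2 h)))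
  have hcx : ∀ y ∈ commutator G, Commute (π x) (π y) := fun y hy =>
    ((congrArg Subtype.val (Subgroup.mem_center_iff.1 hxc ⟨π y, y, hy, rfl⟩) :
      π y * π x = π x * π y)).symm
  intro a ha b hb
  rw [← QuotientGroup.eq_one_iff]
  show π ⁅a, b⁆ = 1
  rw [map_commutatorElement, commutatorElement_eq_one_iff_mul_comm]
  by_cases haK : a ∈ hS.ker
  · rw [show π a = 1 from (QuotientGroup.eq_one_iff a).2 haK, one_mul, mul_one]
  obtain ⟨c, rfl⟩ := isConj_iff.1
    ((hS.mem_sdiff_iff.1 ⟨hx, hxK⟩).symm.trans (hS.mem_sdiff_iff.1 ⟨ha, haK⟩))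
  have h := hcx (c⁻¹ * b * c) (by
    simpa using Subgroup.Normal.conj_mem inferInstance b hb c⁻¹)
  simp only [map_mul, map_inv] at h ⊢
  calc π c * π x * (π c)⁻¹ * π b = π c * (π x * ((π c)⁻¹ * π b * π c)) * (π c)⁻¹ := by group
    _ = π c * (((π c)⁻¹ * π b * π c) * π x) * (π c)⁻¹ := by rw [h.eq]
    _ = π b * (π c * π x * (π c)⁻¹) := by group

theorem card_ker_mul (hS : Seen g χ) :
    Nat.card hS.ker * hS.ker.relIndex (commutator G) = Nat.card (commutator G) := by
  rw [← Nat.card_congr (Subgroup.subgroupOfEquivOfLe hS.ker_le).toEquiv]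
  exact (hS.ker.subgroupOf (commutator G)).card_mul_index

theorem centralizer_mul (hS : Seen g χ) :
    Nat.card (Subgroup.centralizer ({g} : Set G)) * (hS.ker.relIndex (commutator G) - 1) =
      hS.ker.relIndex (commutator G) * (commutator G).index := by
  have h := (Subgroup.centralizer ({g} : Set G)).card_mul_index
  rw [← hS.conjugates_ncard, Set.ncard_sdiff hS.ker_le (Set.toFinite _), ← Nat.card_coe_set_eq,
    ← Nat.card_coe_set_eq, ← (commutator G).card_mul_index] at h
  change _ * (Nat.card (commutator G) - Nat.card hS.ker) = _ at h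
  rw [← hS.card_ker_mul] at h
  refine Nat.eq_of_mul_eq_mul_left (Nat.card_pos (α := hS.ker)) ?_
  rw [← mul_assoc, ← mul_assoc, mul_comm (Nat.card hS.ker), mul_assoc, Nat.mul_sub, mul_one, h,
    mul_assoc]

theorem one_lt_relIndex (hS : Seen g χ) : 1 < hS.ker.relIndex (commutator G) := by
  have h0 : hS.ker.relIndex (commutator G) ≠ 0 := Subgroup.index_ne_zero_of_finite
  have h1 : hS.ker.relIndex (commutator G) ≠ 1 := fun h =>
    hS.not_mem_ker (Subgroup.relIndex_eq_one.1 h hS.mem_commutator)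
  omega

theorem exists_relIndex_pow (hS : Seen g χ) (hpow : ∀ x ∈ commutator G, x ^ r ∈ hS.ker) :
    ∃ a : ℕ, hS.ker.relIndex (commutator G) = r ^ a := by
  haveI := hS.ker_normal
  haveI : Fact r.Prime := hr
  have h : IsPGroup r (↥(commutator G) ⧸ hS.ker.subgroupOf (commutator G)) := by
    intro x
    induction x using QuotientGroup.induction_on with
    | _ x =>
      refine ⟨1, ?_⟩
      rw [pow_one, ← QuotientGroup.mk_pow, QuotientGroup.eq_one_iff, Subgroup.mem_subgroupOf]
      exact hpow x x.2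
  obtain ⟨a, ha⟩ := IsPGroup.iff_card.1 h
  exact ⟨a, (Subgroup.index_eq_card _).trans ha⟩

/-- The centralizer of `g` is an `r`-group. -/
theorem exists_centralizer_pow (hS : Seen g χ) (hpow : ∀ x ∈ commutator G, x ^ r ∈ hS.ker) :
    (∀ z : G, ⁅z, g⁆ ∈ hS.ker → ∀ q : ℕ, q.Prime → q ≠ r → z ^ q ∈ hS.ker → z ∈ hS.ker) ∧
      ∃ u : ℕ, Nat.card (Subgroup.centralizer ({g} : Set G)) = r ^ u := by
  haveI := hS.ker_normal
  set π := QuotientGroup.mk' hS.ker with hπ
  have hone : ∀ x : G, π x = 1 ↔ x ∈ hS.ker := fun x => QuotientGroup.eq_one_iff x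
  have hfirst : ∀ z : G, ⁅z, g⁆ ∈ hS.ker → ∀ q : ℕ, q.Prime → q ≠ r → z ^ q ∈ hS.ker →
      z ∈ hS.ker := by
    intro z hzg q hq hqr hzq
    by_contra hzK
    have hab : ∀ a ∈ commutator G, ∀ b ∈ commutator G, Commute (π a) (π b) := fun a ha b hb =>
      commute_of_comm_eq_one (by
        rw [← map_commutatorElement]; exact (hone _).2 (hS.comm_mem_ker hpow a ha b hb))
    have hcz : Commute (π z) (π g) := commute_of_comm_eq_one (by
      rw [← map_commutatorElement]; exact (hone _).2 hzg)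
    -- `z` centralizes the derived subgroup modulo the kernel
    have hall : ∀ x ∈ commutator G, Commute (π z) (π x) := by
      intro x hx
      by_cases hxK : x ∈ hS.ker
      · rw [(hone x).2 hxK]; exact Commute.one_right _
      obtain ⟨c, rfl⟩ := isConj_iff.1 (hS.mem_sdiff_iff.1 ⟨hx, hxK⟩)
      have hp : ⁅c⁻¹, z⁆ ∈ commutator G :=
        Subgroup.commutator_mem_commutator (Subgroup.mem_top _) (Subgroup.mem_top _)
      have h1 : Commute (π (⁅c⁻¹, z⁆ * z)) (π g) := by
        rw [map_mul]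
        exact (hab _ hp g hS.mem_commutator).mul_left hcz
      rw [show ⁅c⁻¹, z⁆ * z = c⁻¹ * z * c by simp [commutatorElement_def]] at h1
      simp only [map_mul, map_inv] at h1 ⊢
      show π z * (π c * π g * (π c)⁻¹) = π c * π g * (π c)⁻¹ * π z
      calc π z * (π c * π g * (π c)⁻¹) = π c * (((π c)⁻¹ * π z * π c) * π g) * (π c)⁻¹ := by group
        _ = π c * (π g * ((π c)⁻¹ * π z * π c)) * (π c)⁻¹ := by rw [h1.eq]
        _ = π c * π g * (π c)⁻¹ * π z := by group
    have hzD : z ∈ commutator G := by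
      refine hS.mem_of_central fun y => (hone _).1 ?_
      have hc : ⁅z, y⁆ ∈ commutator G :=
        Subgroup.commutator_mem_commutator (Subgroup.mem_top _) (Subgroup.mem_top _)
      have hcom : Commute (π z) ⁅π z, π y⁆ := by
        rw [← map_commutatorElement]; exact hall _ hc
      have hind : ∀ k : ℕ, ⁅(π z) ^ k, π y⁆ = ⁅π z, π y⁆ ^ k := by
        intro k
        induction k with
        | zero => simp
        | succ k ih =>
          rw [pow_succ, comm_mul_left_of_central (hcom.pow_left k), ih, ← pow_succ']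
      rw [map_commutatorElement]
      refine eq_one_of_coprime_orders ((Nat.coprime_primes hq hr.out).2 hqr) ?_ ?_
      · rw [← hind, ← map_pow, (hone _).2 hzq, commutatorElement_one_left]
      · rw [← map_commutatorElement, ← map_pow]
        exact (hone _).2 (hpow _ hc)
    exact hzK ((hone z).1 (eq_one_of_coprime_orders ((Nat.coprime_primes hq hr.out).2 hqr)
      (by rw [← map_pow]; exact (hone _).2 hzq)
      (by rw [← map_pow]; exact (hone _).2 (hpow z hzD))))
  refine ⟨hfirst, ?_⟩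
  set C := Subgroup.centralizer ({π g} : Set (G ⧸ hS.ker)) with hC
  -- the class of the image
  have hset : {x : G ⧸ hS.ker | IsConj x (π g)} =
      ((commutator G).map π : Set (G ⧸ hS.ker)) \ {1} := by
    ext x
    obtain ⟨x, rfl⟩ := QuotientGroup.mk'_surjective hS.ker x
    constructor
    · intro h
      obtain ⟨c, hc⟩ := isConj_iff.1 h.symm
      obtain ⟨c, rfl⟩ := QuotientGroup.mk'_surjective hS.ker c
      refine ⟨⟨c * g * c⁻¹, Subgroup.Normal.conj_mem inferInstance g hS.mem_commutator c, ?_⟩, ?_⟩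
      · rw [map_mul, map_mul, map_inv]; exact hc
      · intro h1
        refine hS.not_mem_ker ((hone g).1 ?_)
        rw [Set.mem_singleton_iff, ← hc] at h1
        exact conj_eq_one_iff.1 h1
    · rintro ⟨⟨y, hy, hyx⟩, h1⟩
      rw [← hyx] at h1 ⊢
      exact (π.map_isConj (hS.mem_sdiff_iff.1 ⟨hy, fun hk => h1 ((hone y).2 hk)⟩)).symm
  haveI : Fintype (G ⧸ hS.ker) := Fintype.ofFinite _
  have h1 := C.card_mul_index
  rw [hC, ← card_conjugates_eq_index] at h1
  rw [show Nat.card {x : G ⧸ hS.ker // IsConj x (π g)} =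
      (((commutator G).map π : Set (G ⧸ hS.ker)) \ {1}).ncard by
    rw [← hset]; exact Nat.card_coe_set_eq _,
    Set.ncard_sdiff_singleton_of_mem (one_mem ((commutator G).map π)), ← Nat.card_coe_set_eq,
    SetLike.coe_sort_coe, ← Subgroup.relIndex_ker, hπ, QuotientGroup.ker_mk',
    ← Subgroup.index_eq_card, ← Subgroup.relIndex_mul_index hS.ker_le] at h1
  have h2 := hS.centralizer_mul
  have hm := hS.one_lt_relIndex
  have heq : Nat.card (Subgroup.centralizer ({g} : Set G)) = Nat.card C :=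
    Nat.eq_of_mul_eq_mul_right (by omega) (h2.trans h1.symm)
  refine ⟨_, heq.trans (Nat.eq_prime_pow_of_unique_prime_dvd Nat.card_pos.ne' fun {q} hq hqC => ?_)⟩
  by_contra hqr
  haveI : Fact q.Prime := ⟨hq⟩
  obtain ⟨⟨z, hzC⟩, hz⟩ := exists_prime_orderOf_dvd_card' q hqC
  obtain ⟨z, rfl⟩ := QuotientGroup.mk'_surjective hS.ker z
  rw [Subgroup.orderOf_mk] at hz
  refine hq.ne_one ?_
  rw [← hz, orderOf_eq_one_iff]
  refine (hone z).2 (hfirst z ((hone _).1 ?_) q hq hqr ((hone _).1 ?_))
  · rw [map_commutatorElement, commutatorElement_eq_one_iff_mul_comm]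
    exact Subgroup.mem_centralizer_singleton_iff.1 hzC
  · rw [map_pow, ← hz, pow_orderOf_eq_one]

/-- The square of the degree of `χ`. -/
theorem degree_sq (hS : Seen g χ) :
    Cfsg.charDegree (χ : G → ℂ) ^ 2 =
      (commutator G).index * (hS.ker.relIndex (commutator G) - 1) := by
  have h := hS.card_centralizer_eq
  rw [hS.value, map_neg, map_div₀, map_natCast, conj_chi_one] at h
  have h2 := congrArg (Nat.cast : ℕ → ℂ) hS.centralizer_mul
  have hm := hS.one_lt_relIndex
  rw [Nat.cast_mul, Nat.cast_mul, Nat.cast_sub hm.le, Nat.cast_one, h] at h2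
  have hd := irr_one_ne_zero χ.2
  have hi : ((commutator G).index : ℂ) ≠ 0 :=
    Nat.cast_ne_zero.2 Subgroup.index_ne_zero_of_finite
  apply Nat.cast_injective (R := ℂ)
  rw [Nat.cast_pow, Blocks.charDegree_cast, Nat.cast_mul, Nat.cast_sub hm.le, Nat.cast_one]
  field_simp at h2
  linear_combination -h2

theorem dvd_of_ne (hS : Seen g χ) {e : ℕ} (he : g ^ r ^ e = 1) (ψ : Cfsg.IrrCharacter G)
    (h1 : (ψ : G → ℂ) 1 ≠ 1) (h2 : ψ ≠ χ) : r ∣ Cfsg.charDegree (ψ : G → ℂ) :=
  dvd_degree_of_vanish he ψ (hS.other ψ h1 h2)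

/-- The case `r ∣ χ 1`. -/
theorem solvable_of_dvd (hS : Seen g χ) (hpow : ∀ x ∈ commutator G, x ^ r ∈ hS.ker)
    (hd : r ∣ Cfsg.charDegree (χ : G → ℂ)) : Group.IsSolvable G := by
  haveI := hS.ker_normal
  obtain ⟨e, he⟩ := hS.exists_pow hpow
  obtain ⟨hfirst, u, hu⟩ := hS.exists_centralizer_pow hpow
  obtain ⟨a, ha⟩ := hS.exists_relIndex_pow hpow
  obtain ⟨N, hNn, hNc, k, hk⟩ := Cfsg.Agent.S4456.result r hr.out fun ψ hψ => by
    by_cases h2 : ψ = χ
    · rw [h2]; exact hd
    · exact hS.dvd_of_ne he ψ (fun h => hψ ((charDegree_eq_one_iff ψ).2 h)) h2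
  haveI := hNn
  set π := QuotientGroup.mk' hS.ker with hπ
  have hone : ∀ x : G, π x = 1 ↔ x ∈ hS.ker := fun x => QuotientGroup.eq_one_iff x
  have hN1 : ∀ n ∈ N, n ^ Nat.card N = 1 := fun n hn =>
    congrArg Subtype.val (pow_card_eq_one' (x := (⟨n, hn⟩ : N)))
  have hNg : ∀ n ∈ N, ⁅n, g⁆ ∈ hS.ker := by
    intro n hn
    have h1 : ⁅n, g⁆ ∈ N := by
      rw [show ⁅n, g⁆ = n * (g * n⁻¹ * g⁻¹) by simp [commutatorElement_def, mul_assoc]]
      exact N.mul_mem hn (hNn.conj_mem _ (N.inv_mem hn) g)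
    rw [← hone]
    refine eq_one_of_coprime_orders hNc ?_ ?_
    · rw [← map_pow, hN1 _ h1, map_one]
    · rw [← map_pow]
      exact (hone _).2 (hpow _
        (Subgroup.commutator_mem_commutator (Subgroup.mem_top _) (Subgroup.mem_top _)))
  have hNK : N ≤ hS.ker := by
    intro n hn
    by_contra hnK
    obtain ⟨q, hq, hqo⟩ := Nat.exists_prime_and_dvd (n := orderOf (π n))
      fun h => hnK ((hone n).1 (orderOf_eq_one_iff.1 h))
    obtain ⟨t, ht⟩ := hqo
    have hto : orderOf (π (n ^ t)) = q := by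
      have ht0 : 0 < t := Nat.pos_of_ne_zero fun h => (orderOf_pos (π n)).ne' (by
        rw [ht, h, mul_zero])
      rw [map_pow, orderOf_pow' _ ht0.ne', ht, Nat.gcd_eq_right (Dvd.intro_left _ rfl),
        Nat.mul_div_cancel _ ht0]
    have hqr : q ≠ r := by
      intro hqr
      have h : orderOf (π (n ^ t)) ∣ Nat.card N := orderOf_dvd_of_pow_eq_one (by
        rw [← map_pow, hN1 _ (N.pow_mem hn t), map_one])
      rw [hto, hqr] at h
      exact (hr.out.coprime_iff_not_dvd).1 (Nat.coprime_comm.1 hNc) h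
    refine hq.ne_one ?_
    rw [← hto, orderOf_eq_one_iff]
    refine (hone _).2 (hfirst _ (hNg _ (N.pow_mem hn t)) q hq hqr ((hone _).1 ?_))
    rw [map_pow, ← hto, pow_orderOf_eq_one]
  have hKi : hS.ker.index ∣ r ^ k := hk ▸ Subgroup.index_dvd_of_le hNK
  rw [← Subgroup.relIndex_mul_index hS.ker_le, ← hS.centralizer_mul] at hKi
  obtain ⟨i, -, hi⟩ := (Nat.dvd_prime_pow hr.out).1 (dvd_of_mul_left_dvd hKi)
  have hm := hS.one_lt_relIndex
  have hi0 : i = 0 := by
    by_contra hi0
    have h1 : r ∣ r ^ i := dvd_pow_self r hi0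
    have h2 : r ∣ r ^ a := dvd_pow_self r fun h => by rw [ha, h, pow_zero] at hm; omega
    rw [← hi] at h1
    rw [← ha] at h2
    have h3 := Nat.dvd_sub h2 h1
    rw [show hS.ker.relIndex (commutator G) - (hS.ker.relIndex (commutator G) - 1) = 1 by omega,
      Nat.dvd_one] at h3
    exact hr.out.ne_one h3
  rw [hi0, pow_zero] at hi
  have hr2 : r = 2 := by
    have h2 : r ∣ 2 := by
      have : r ^ a = 2 := by omega
      exact this ▸ dvd_pow_self r fun h => by rw [h, pow_zero] at this; omega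
    exact (Nat.prime_dvd_prime_iff_eq hr.out Nat.prime_two).1 h2
  have hodd : Odd (Nat.card N) := by
    rw [← Nat.coprime_two_right]; exact hr2 ▸ hNc
  refine solvable_of_extension N (Cfsg.Agent.S0205.result hodd) ?_
  have hp : IsPGroup r (G ⧸ N) :=
    IsPGroup.of_card (n := k) ((Subgroup.index_eq_card N).symm.trans hk)
  haveI := hp.isNilpotent
  infer_instance

/-- The case `r ∤ χ 1`. -/
theorem solvable_of_not_dvd (hS : Seen g χ) (hpow : ∀ x ∈ commutator G, x ^ r ∈ hS.ker)
    (hd : ¬ r ∣ Cfsg.charDegree (χ : G → ℂ)) : Group.IsSolvable G := by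
  classical
  haveI := hS.ker_normal
  obtain ⟨e, he⟩ := hS.exists_pow hpow
  obtain ⟨-, u, hu⟩ := hS.exists_centralizer_pow hpow
  obtain ⟨a, ha⟩ := hS.exists_relIndex_pow hpow
  set m := hS.ker.relIndex (commutator G) with hmdef
  set ι := (commutator G).index with hιdef
  have hm : 1 < m := hS.one_lt_relIndex
  have hι : ¬ r ∣ ι := fun h => hd (hr.out.dvd_of_dvd_pow (n := 2)
    (hS.degree_sq ▸ h.mul_right _))
  have hcm : ι + 1 = m := by
    have h := hS.centralizer_mul
    rw [hu, ← hmdef, ← hιdef] at h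
    have h1 : r ^ u ∣ m := by
      have h0 : r ^ u ∣ m * ι := ⟨_, h.symm⟩
      exact (Nat.Coprime.pow_left u ((hr.out.coprime_iff_not_dvd).2 hι)).dvd_of_dvd_mul_right h0
    have h2 : m ∣ r ^ u := by
      have h0 : m ∣ r ^ u * (m - 1) := ⟨ι, h⟩
      exact (((Nat.coprime_self_sub_right (m := 1) hm.le).2 (Nat.coprime_one_right _))).dvd_of_dvd_mul_right h0
    rw [Nat.dvd_antisymm h1 h2] at h
    have := Nat.eq_of_mul_eq_mul_left (show 0 < m by omega) h
    omega
  haveI : Fintype (commutator G) := Fintype.ofFinite _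
  obtain ⟨ND, hNDn, hNDc, k, hk⟩ := Cfsg.Agent.S4456.result (G := commutator G) r hr.out
      fun θ hθ => by
    by_contra hdθ
    obtain ⟨c, hc⟩ := exists_nat_coeff
      (isCharacter_indFun (commutator G) (isCharacter_of_isIrr θ.2))
    have h1 := congrFun hc 1
    simp only [indFun_one, Finset.sum_apply, Pi.smul_apply, smul_eq_mul,
      ← Blocks.charDegree_cast, ← hιdef] at h1
    norm_cast at h1
    obtain ⟨ψ, -, hψ⟩ : ∃ ψ ∈ (Finset.univ : Finset (Cfsg.IrrCharacter G)),
        ¬ r ∣ c ψ * Cfsg.charDegree (ψ : G → ℂ) := by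
      by_contra hall
      push Not at hall
      have h2 := Finset.dvd_sum hall
      rw [← h1] at h2
      exact (hr.out.dvd_mul.1 h2).elim hι hdθ
    have hinner : Cfsg.classInner (fun h : commutator G => (ψ : G → ℂ) h)
        (θ : commutator G → ℂ) ≠ 0 := by
      rw [← classInner_indFun_right (commutator G) (θ : commutator G → ℂ)
        (isClassFunction_of_isIrr ψ.2), classInner_conj_symm, hc, classInner_irr_coeff]
      simp only [map_natCast, ne_eq, Nat.cast_eq_zero]
      exact fun h => hψ (by rw [h, zero_mul]; exact dvd_zero r)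
    have hKψ : ∀ x ∈ hS.ker, (ψ : G → ℂ) x = (ψ : G → ℂ) 1 := by
      by_cases h1' : (ψ : G → ℂ) 1 = 1
      · intro x hx
        obtain ⟨f, hf⟩ := exists_hom_of_degree_one (isCharacter_of_isIrr ψ.2) h1'
        rw [hf]
        show (f x : ℂ) = (f 1 : ℂ)
        rw [MonoidHom.mem_ker.1 (Abelianization.commutator_subset_ker f (hS.ker_le hx)), map_one]
      · have hψχ : ψ = χ := by
          by_contra h2
          exact hψ ((hS.dvd_of_ne he ψ h1' h2).mul_left _)
        exact fun x hx => hψχ ▸ hx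
    refine hθ ((charDegree_eq_one_iff θ).2 (linear_of_constituent
      (hS.ker.subgroupOf (commutator G)) ?_
      (isCharacter_restrict (commutator G) (isCharacter_of_isIrr ψ.2))
      (fun x hx => hKψ (x : G) hx) θ hinner))
    show ⁅(⊤ : Subgroup (commutator G)), (⊤ : Subgroup (commutator G))⁆ ≤ _
    rw [Subgroup.commutator_le]
    intro x _ y _
    exact hS.comm_mem_ker hpow x x.2 y y.2
  haveI := hNDn
  have hchar : ∀ x : commutator G, x ^ Nat.card ND = 1 → x ∈ ND := by
    intro x hx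
    rw [← QuotientGroup.eq_one_iff]
    refine eq_one_of_coprime_orders (Nat.Coprime.pow_right k hNDc) ?_ ?_
    · rw [← QuotientGroup.mk_pow, hx]; rfl
    · rw [← hk, ← QuotientGroup.mk_pow, QuotientGroup.eq_one_iff]
      exact Subgroup.pow_index_mem ND x
  set N := ND.map (commutator G).subtype with hNdef
  have hNcard : Nat.card N = Nat.card ND :=
    (Nat.card_congr (Subgroup.equivMapOfInjective ND _ (Subgroup.subtype_injective _)).toEquiv).symm
  have hN1 : ∀ n ∈ N, n ^ Nat.card N = 1 := fun n hn =>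
    congrArg Subtype.val (pow_card_eq_one' (x := (⟨n, hn⟩ : N)))
  have hNn : N.Normal := by
    refine ⟨fun n hn c => ?_⟩
    obtain ⟨⟨n, hnD⟩, hnN, rfl⟩ := hn
    refine ⟨⟨c * n * c⁻¹, Subgroup.Normal.conj_mem inferInstance n hnD c⟩,
      hchar _ (Subtype.ext ?_), rfl⟩
    show (c * n * c⁻¹) ^ Nat.card ND = 1
    have hh : n ^ Nat.card ND = 1 := by
      rw [← hNcard]; exact hN1 n ⟨⟨n, hnD⟩, hnN, rfl⟩
    rw [conj_pow, hh]; group
  haveI := hNn
  have hND : N ≤ commutator G := Subgroup.map_subtype_le ND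
  have hNK : N ≤ hS.ker := by
    intro n hn
    by_contra hnK
    obtain ⟨c, hc⟩ := isConj_iff.1 (hS.mem_sdiff_iff.1 ⟨hND hn, hnK⟩)
    refine hnK ?_
    have h1 : n = 1 := eq_one_of_coprime_orders (Nat.Coprime.pow_right e (hNcard ▸ hNDc))
      (hN1 n hn) (by rw [← hc, conj_pow, he]; group)
    rw [h1]; exact one_mem _
  set π := QuotientGroup.mk' N with hπ
  set P := (commutator G).map π with hP
  have hPp : IsPGroup r P := by
    rintro ⟨_, x, hx, rfl⟩
    refine ⟨k, Subtype.ext ?_⟩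
    show π x ^ r ^ k = 1
    rw [← map_pow, ← hk]
    exact (QuotientGroup.eq_one_iff _).2
      ⟨_, Subgroup.pow_index_mem ND ⟨x, hx⟩, rfl⟩
  have hPc : commutator (G ⧸ N) ≤ P := by
    rw [commutator_def, ← Subgroup.map_top_of_surjective π (QuotientGroup.mk'_surjective N),
      ← Subgroup.map_commutator, ← commutator_def]
  refine solvable_of_extension N ?_ (solvable_of_commutator P hPc (by
    haveI := hPp.isNilpotent
    infer_instance))
  by_cases hr2 : r = 2
  · refine Cfsg.Agent.S0205.result ?_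
    rw [← Nat.coprime_two_right, hNcard]
    exact hr2 ▸ hNDc
  set T := hS.ker.map π with hT
  have hcomap : T.comap π = hS.ker := by
    rw [hT, Subgroup.comap_map_eq, hπ, QuotientGroup.ker_mk']; exact sup_eq_left.2 hNK
  have hmemT : ∀ {x : G}, π x ∈ T → x ∈ hS.ker := fun {x} hx => hcomap ▸ hx
  have hrel : T.relIndex P = m := by
    rw [hP, ← Subgroup.relIndex_comap, hcomap]
  have hset : Setting P T r (π g) := by
    refine ⟨Subgroup.map_mono hS.ker_le, hPp, ⟨g, hS.mem_commutator, rfl⟩,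
      fun h => hS.not_mem_ker (hmemT h), ?_, hPc, ?_, ?_, ?_⟩
    · rintro x ⟨y, hy, rfl⟩ hyT
      exact π.map_isConj (hS.mem_sdiff_iff.1 ⟨hy, fun h => hyT ⟨y, h, rfl⟩⟩)
    · rintro x ⟨x, hx, rfl⟩ y ⟨y, hy, rfl⟩
      rw [← map_commutatorElement]
      exact ⟨_, hS.comm_mem_ker hpow x hx y hy, rfl⟩
    · rintro x ⟨x, hx, rfl⟩
      exact ⟨_, hpow x hx, map_pow π x r⟩
    · rw [hrel, hP, Subgroup.index_map_eq (H := commutator G) (QuotientGroup.mk'_surjective N)
        (by rw [QuotientGroup.ker_mk']; exact hND)]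
      exact hcm
  haveI : P.Normal := Subgroup.Normal.map inferInstance π (QuotientGroup.mk'_surjective N)
  haveI : T.Normal := Subgroup.Normal.map inferInstance π (QuotientGroup.mk'_surjective N)
  have hgr : g ^ r = 1 := by
    have h := hset.exists_pow_eq_one hr2
    rw [← map_pow] at h
    refine eq_one_of_coprime_orders (Nat.Coprime.pow_right e (hNcard ▸ hNDc))
      (hN1 _ ((QuotientGroup.eq_one_iff _).1 h)) ?_
    rw [← pow_mul, mul_comm, pow_mul, he, one_pow]
  rcases subsingleton_or_nontrivial N with hsub | hnt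
  · exact Group.isSolvable_of_comm fun x y => Subsingleton.elim _ _
  let φ : N ≃* N := MulAut.conjNormal g
  have hfix : MonoidHom.FixedPointFree (φ : N →* N) := by
    intro n hn
    have hn' : g * (n : G) * g⁻¹ = n := congrArg Subtype.val hn
    refine Subtype.ext (eq_one_of_coprime_orders (Nat.Coprime.pow_right u (hNcard ▸ hNDc))
      (hN1 n n.2) ?_)
    rw [← hu]
    exact congrArg Subtype.val (pow_card_eq_one' (x := (⟨(n : G),
      Subgroup.mem_centralizer_singleton_iff.2 (mul_inv_eq_iff_eq_mul.1 hn').symm⟩ :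
        Subgroup.centralizer ({g} : Set G))))
  have hord : orderOf φ = r := by
    haveI : Fact r.Prime := hr
    refine orderOf_eq_prime ?_ fun h => ?_
    · show (MulAut.conjNormal g : MulAut N) ^ r = 1
      rw [← map_pow, hgr, map_one]
    · obtain ⟨n, hn⟩ := exists_ne (1 : N)
      exact hn (hfix n (by rw [h]; rfl))
  haveI := Cfsg.Agent.S0033.result φ hfix r hr.out hord
  infer_instance

end Prime

theorem solvable (hS : Seen g χ) : Group.IsSolvable G := by
  obtain ⟨r, hr, hpow⟩ := hS.exists_prime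
  haveI : Fact r.Prime := ⟨hr⟩
  by_cases hd : r ∣ Cfsg.charDegree (χ : G → ℂ)
  · exact hS.solvable_of_dvd hpow hd
  · exact hS.solvable_of_not_dvd hpow hd

end Seen

end CfsgLib.OneCharElement
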